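import Cfsg.Agent.Lib.Fusion.System.ConstrainedSub
import Cfsg.Agent.Lib.Fusion.System.Puig
import Cfsg.Agent.Lib.Fusion.System.FactorHyperfocal
import Cfsg.Agent.Lib.Fusion.System.PPowerIndex
import Cfsg.Agent.Lib.Fusion.System.StrongInvariance
import Cfsg.Agent.Lib.Fusion.System.KNormalizer
import Cfsg.Agent.Lib.Fusion.System.AbelianSimple
import Cfsg.Agent.Lib.Fusion.System.PPrimeIndex
import Cfsg.Agent.Lib.Coprime.Core

/-!
# Cores of weakly normal subsystems, centralizers of normal subgroups, constrained systems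
-/

set_option autoImplicit false
set_option linter.style.haveILetI false
set_option linter.unusedSectionVars false

open Subgroup
open scoped Classical Pointwise

namespace CfsgLib.Fusion.Components

open Cfsg (FusionSystem autInducedBy)
open Cfsg.FusionSystem (normalizerIn centralizerIn)
open CfsgLib.Fusion

variable {Ω : Type*} [Group Ω] {S T : Subgroup Ω} {F : FusionSystem S} {E : FusionSystem T}
  {p : ℕ} [Finite S] [Fact p.Prime] {P Q R X : Subgroup Ω} {f g : Ω → Ω}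

omit [Finite S] [Fact p.Prime] in
theorem isMap_of_sub (h : E.IsSubsystemOf F) (hf : IsMap E P f) : IsMap F P f :=
  let ⟨φ, hφ, hφf⟩ := hf; ⟨φ, h P hφ, hφf⟩

omit [Finite S] in
theorem exists_coprime_pow {M : Type*} [Group M] [Finite M] (a : M) :
    ∃ k, (orderOf (a ^ p ^ k)).Coprime p := by
  have hp := (Fact.out : p.Prime)
  obtain ⟨e, m, hm, hn⟩ := Nat.exists_eq_pow_mul_and_not_dvd (orderOf_pos a).ne' p hp.ne_one
  refine ⟨e, Nat.Coprime.coprime_dvd_left (orderOf_dvd_of_pow_eq_one (n := m) ?_)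
    (hp.coprime_iff_not_dvd.2 hm).symm⟩
  rw [← pow_mul, ← orderOf_dvd_iff_pow_eq_one, hn]

omit [Finite S] [Fact p.Prime] in
theorem exists_pow_pow_eq {M : Type*} [Group M] {a : M} (h : (orderOf a).Coprime p) (k : ℕ) :
    ∃ m, (a ^ p ^ k) ^ m = a :=
  exists_pow_eq_self_of_coprime (h.symm.pow_left k)

omit [Finite S] [Fact p.Prime] in
theorem isNormal_of_isCentral (h : F.IsCentral Q) : F.IsNormal Q := by
  refine isNormal_iff.2 ⟨h.1, fun P f hf => ?_⟩
  obtain ⟨g, hg, hgf, hgc⟩ := (isCentral_iff.1 h).2 P f hf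
  exact ⟨g, hg, hgf, img_eq_self_of_fix hgc⟩

omit [Fact p.Prime] in
theorem center_le_core : F.center ≤ F.core := le_core (isNormal_of_isCentral isCentral_center)

omit [Finite S] [Fact p.Prime] in
theorem conj_mem_of_stronglyClosed (h : F.StronglyClosed Q) {s x : Ω} (hs : s ∈ S) (hx : x ∈ Q) :
    s * x * s⁻¹ ∈ Q :=
  (Subgroup.mem_normalizer_iff.1 (le_normalizerIn_of_stronglyClosed h hs).2 x).1 hx

/-- The core of a constrained system is centric. -/
theorem isCentric_core (h : F.IsConstrained p) : F.IsCentric F.core := by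
  obtain ⟨-, Q₀, hn, hc⟩ := h
  exact isCentric_mono hc (le_core hn) isNormal_core.1

/-- The automizer of `T` in an invariant subsystem over `T` is normal in that of the system. -/
theorem conj_mem_autGroup_top (hS : IsPGroup p S) (hF : F.IsSaturated p) (hinv : E.IsInvariantIn F)
    {γ α : MulAut T} (hγ : γ ∈ F.autGroup T) (hα : α ∈ E.autGroup T) :
    γ * α * γ⁻¹ ∈ E.autGroup T := by
  obtain ⟨k, hk, hke⟩ := ((isInvariantIn_iff_strongInv hS hF hinv.1 hinv.2.1).1 hinv).transport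
    hinv.2.1.1 hγ ((mem_autGroup_iff le_rfl).1 hα)
  rw [img_autFun] at hk
  refine (mem_autGroup_iff le_rfl).2 (hk.congr fun y hy => ?_)
  have h1 := hke _ (autFun_mem γ⁻¹ hy)
  rw [PPrime.autFun_symm' hy] at h1
  rw [h1, autFun_mul _ _ hy, autFun_mul _ _ (autFun_mem γ⁻¹ hy)]

/-- The core of a weakly normal subsystem is normal. -/
theorem isNormal_weaklyNormal_core (hS : IsPGroup p S) (hE : E.IsWeaklyNormalIn F p) :
    F.IsNormal E.core := by
  obtain ⟨hEs, hFs, hinv⟩ := hE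
  have hTS := hinv.2.1.1
  haveI : Finite T := finite_of_le hTS
  have hT := hS.to_le hTS
  have hstr := (isInvariantIn_iff_strongInv hS hFs hinv.1 hinv.2.1).1 hinv
  set Q := E.core with hQdef
  have hQ : E.IsNormal Q := isNormal_core
  have hQT : Q ≤ T := hQ.1
  have hQS : Q ≤ S := hQT.trans hTS
  have hQinv : ∀ α ∈ F.autGroup T, ∀ x ∈ Q, autFun α x ∈ Q := by
    intro α hα x hx
    have hαm := ((mem_autGroup_iff hTS).1 hα).mono hQT
    refine le_core (F := E) ((isNormal_iff_autExtends hT hEs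
      (hαm.img_le_of_forall fun z hz => autFun_mem α (hQT hz))).2 fun P f hP hf => ?_)
      (hαm.mem_img.2 ⟨x, hx, rfl⟩)
    have hfT : ∀ y ∈ P, f y ∈ T := fun y hy => hf.mem_S hy
    obtain ⟨k, hk, hke⟩ := hstr.transport hTS (inv_mem hα) hf
    have hkQ : img P (autFun α⁻¹) ≤ Q :=
      (((mem_autGroup_iff hTS).1 (inv_mem hα)).mono hf.le).img_le_of_forall fun y hy => by
        obtain ⟨z, hz, rfl⟩ := hαm.mem_img.1 (hP hy)
        rw [PPrime.autFun_symm (hQT hz)]
        exact hz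
    obtain ⟨ε, hε, hεk⟩ := autExtends_of_isNormal hQ _ k hkQ hk
    obtain ⟨m, hm, hme⟩ := hstr.transport hTS hα ((mem_autGroup_iff hQT).1 hε)
    have hmi : img (img Q (autFun α)) m = img Q (autFun α) :=
      img_eq_of_map_le (S := T) hm.le hm le_rfl fun y hy => by
        obtain ⟨z, hz, rfl⟩ := hαm.mem_img.1 hy
        rw [hme z hz]
        exact hαm.mem_img.2 ⟨_, autFun_mem ε hz, rfl⟩
    refine ⟨autOf hm hmi, autOf_mem hm hmi, fun y hy => ?_⟩
    obtain ⟨z, hz, rfl⟩ := hαm.mem_img.1 (hP hy)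
    have hz' : z ∈ img P (autFun α⁻¹) :=
      (((mem_autGroup_iff hTS).1 (inv_mem hα)).mono hf.le).mem_img.2
        ⟨_, hy, PPrime.autFun_symm (hQT hz)⟩
    have h1 := hke _ hy
    rw [PPrime.autFun_symm (hQT hz)] at h1
    rw [autFun_autOf hm hmi (hαm.mem_img.2 ⟨z, hz, rfl⟩), hme z hz, hεk z hz', h1,
      PPrime.autFun_symm' (hfT _ hy)]
  refine (isNormal_iff_autExtends hS hFs hQS).2 fun P f hP hf => ?_
  obtain ⟨α, hα, f₀, hf₀, hfe⟩ :=
    decomp_of_strongInv hS hFs hinv.2.1 hinv.1 hstr hf (hP.trans hQT)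
  obtain ⟨ε, hε, hεf⟩ := autExtends_of_isNormal hQ P f₀ hP hf₀
  have hαm := ((mem_autGroup_iff hTS).1 hα).mono hQT
  have hαi : img Q (autFun α) = Q := img_eq_of_map_le hQS hαm le_rfl (hQinv α hα)
  refine ⟨autOf hαm hαi * ε, mul_mem (autOf_mem hαm hαi)
    ((mem_autGroup_iff hQS).2 (isMap_of_sub hinv.1 ((mem_autGroup_iff hQT).1 hε))), fun x hx => ?_⟩
  rw [autFun_mul _ _ (hP hx), autFun_autOf hαm hαi (autFun_mem ε (hP hx)), hεf x hx, hfe x hx]

omit [Fact p.Prime] [Finite S] in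
/-- A product of a normal subgroup and its centralizer is strongly closed. -/
theorem stronglyClosed_sup_centralizer (hQ : F.IsNormal Q) :
    F.StronglyClosed (Q ⊔ centralizerIn S Q) := by
  refine stronglyClosed_iff.2 ⟨sup_le hQ.1 inf_le_left, fun P f hP hf x hx => ?_⟩
  obtain ⟨g, hg, hgf, hgQ⟩ := (isNormal_iff.1 hQ).2 P f hf
  have hx' : x ∈ ((centralizerIn S Q ⊔ Q : Subgroup Ω) : Set Ω) := by
    rw [sup_comm]; exact hP hx
  rw [coe_mul_of_left_le_normalizer_right (centralizerIn S Q) Q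
    (inf_le_right.trans (Subgroup.centralizer_le_normalizer _))] at hx'
  obtain ⟨c, hc, q, hq, rfl⟩ := Set.mem_mul.1 hx'
  have hqW : q ∈ P ⊔ Q := Subgroup.mem_sup_right hq
  have hcW : c ∈ P ⊔ Q := by
    have h1 := mul_mem (Subgroup.mem_sup_left (T := Q) hx) (inv_mem hqW)
    rwa [mul_inv_cancel_right] at h1
  rw [← hgf _ hx, hg.map_mul hcW hqW]
  have h1 := map_mem_centralizerIn hg le_sup_right hcW hc.2
  rw [hgQ] at h1
  exact mul_mem (Subgroup.mem_sup_right h1) (Subgroup.mem_sup_left (mem_of_img_eq hg le_sup_right hgQ hq))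

/-- A normal subgroup whose pointwise stabilizers in the automizers above it are `p`-groups
makes the system constrained. -/
theorem isConstrained_of_fix (hS : IsPGroup p S) (hF : F.IsSaturated p) (hQn : F.IsNormal Q)
    (hfix : ∀ X : Subgroup Ω, X ≤ S → Q ≤ X → ∀ β : F.autGroup X, (orderOf β).Coprime p →
      (∀ x ∈ Q, autFun (β : MulAut X) x = x) → β = 1) : F.IsConstrained p := by
  have hQsc := stronglyClosed_of_isNormal hQn
  set C := centralizerIn S Q with hC
  have hsc := stronglyClosed_sup_centralizer hQn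
  have hSC : S ≤ normalizerIn S C := by
    have key : ∀ s ∈ S, ∀ c ∈ C, s * c * s⁻¹ ∈ C := fun s hs c hc => by
      have h1 := map_mem_centralizerIn (isMap_conj (F := F) (le_refl S) hs) hQn.1 hc.1 hc.2
      rwa [img_conj, conjBy_eq_iff.2 (le_normalizerIn_of_stronglyClosed hQsc hs).2] at h1
    refine fun s hs => ⟨hs, Subgroup.mem_normalizer_iff.2 fun x => ⟨key s hs x, fun hx => ?_⟩⟩
    have h1 := key s⁻¹ (inv_mem hs) _ hx
    simpa [mul_assoc] using h1
  have hle : ∀ X, F.IsCentric X → F.IsRadical p X → C ≤ X := by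
    intro X hc hr
    have hXS := hc.1
    have hQX : Q ≤ X := le_of_isNormal hS hQn hc hr
    haveI := finite_of_le hXS
    haveI := finite_mulAut (P := X)
    let K : Subgroup (F.autGroup X) :=
      { carrier := {a | ∀ x ∈ Q, autFun (a : MulAut X) x = x}
        one_mem' := fun x hx => autFun_one (hQX hx)
        mul_mem' := fun {a b} ha hb x hx => by
          rw [Subgroup.coe_mul, autFun_mul _ _ (hQX hx), hb x hx, ha x hx]
        inv_mem' := fun {a} ha x hx => by
          show autFun (a : MulAut X)⁻¹ x = x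
          conv_lhs => rw [← ha x hx]
          exact PPrime.autFun_symm (hQX hx) }
    have hKn : K.Normal := ⟨fun a ha b x hx => by
      have h1 : autFun ((b : MulAut X))⁻¹ x ∈ Q :=
        (autInvariant_of_stronglyClosed hQsc hXS (inv_mem b.2) ⟨hQX hx, hx⟩).2
      rw [Subgroup.coe_mul, Subgroup.coe_mul, Subgroup.coe_inv, autFun_mul _ _ (hQX hx),
        autFun_mul _ _ (autFun_mem _ (hQX hx)), ha _ h1, PPrime.autFun_symm' (hQX hx)]⟩
    have hKp : IsPGroup p K := by
      intro a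
      obtain ⟨k, hk⟩ := exists_coprime_pow (p := p) (a : F.autGroup X)
      refine ⟨k, Subtype.ext ?_⟩
      set β : F.autGroup X := (a : F.autGroup X) ^ p ^ k with hβ
      have hβK : β ∈ K := K.pow_mem a.2 _
      rw [Subgroup.coe_pow, Subgroup.coe_one, ← hβ]
      exact hfix X hXS hQX β hk hβK
    refine le_of_conjAut_mem_pCore hS inf_le_left hSC hc hr fun c hcX hcC hm =>
      CfsgLib.Coprime.le_pCore (hN := hKn) hKp fun x hx => ?_
    show autFun (conjAut c hcX) x = x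
    rw [autFun_conjAut hcX (hQX hx), ← Subgroup.mem_centralizer_iff.1 hcC.2 x hx,
      mul_inv_cancel_right]
  refine ⟨hF, Q ⊔ C, isNormal_of_stronglyClosed_le hS hF hsc fun X hX => ?_, ⟨hsc.1, fun R hR => ?_⟩⟩
  · obtain ⟨hc, hr⟩ := isEssential_centric_radical hS hX
    exact sup_le (le_of_isNormal hS hQn hc hr) (hle X hc hr)
  · obtain ⟨f, hf, rfl⟩ := isConj_iff.1 hR
    rw [img_eq_of_map_le hsc.1 hf le_rfl ((stronglyClosed_iff.1 hsc).2 _ _ le_rfl hf)]
    exact fun y hy => Subgroup.mem_sup_right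
      ⟨hy.1, Subgroup.centralizer_le (le_sup_left (a := Q) (b := C)) hy.2⟩

/-- A weakly normal constrained subsystem containing the hyperfocal subgroup makes the system
constrained. -/
theorem isConstrained_of_weaklyNormal (hS : IsPGroup p S) (hE : E.IsWeaklyNormalIn F p)
    (hhyp : F.hyperfocalSubgroup p ≤ T) (hEc : E.IsConstrained p) : F.IsConstrained p := by
  have hF := hE.2.1
  have hTS := hE.2.2.2.1.1
  haveI : Finite T := finite_of_le hTS
  set Q := E.core with hQdef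
  have hQn : F.IsNormal Q := isNormal_weaklyNormal_core hS hE
  have hQc : E.IsCentric Q := isCentric_core hEc
  have hQsc := stronglyClosed_of_isNormal hQn
  refine isConstrained_of_fix hS hF hQn fun X hXS hQX β hk hβK => ?_
  haveI := finite_of_le hXS
  haveI := finite_mulAut (P := X)
  have hstab : ∀ x ∈ X, x⁻¹ * autFun (β : MulAut X) x ∈ Q := by
    intro x hx
    refine centralizerIn_le_of_isCentric hQc ⟨hhyp (mem_hyperfocal hXS (mem_pResidual hk) hx),
      Subgroup.mem_centralizer_iff.2 fun q hq => ?_⟩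
    have hq' : x * q * x⁻¹ ∈ Q := conj_mem_of_stronglyClosed hQsc (hXS hx) hq
    have h1 := hβK _ hq'
    rw [((mem_autGroup_iff hXS).1 β.2).map_conj hx (hQX hq), hβK q hq] at h1
    calc q * (x⁻¹ * autFun (β : MulAut X) x)
        = x⁻¹ * (x * q * x⁻¹) * autFun (β : MulAut X) x := by group
      _ = _ := by rw [← h1]; group
  obtain ⟨n, hn⟩ := IsPGroup.iff_card.1 hS
  have h2 : β ^ p ^ n = 1 := Subtype.ext (autFun_ext fun x hx => by
    rw [Subgroup.coe_pow, Subgroup.coe_one, autFun_one hx]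
    exact pow_fix_step hXS hn le_rfl hQX hβK
      (fun y hy => hstab y hy) x hx)
  obtain ⟨m, hm⟩ := exists_pow_pow_eq hk n
  rw [← hm, h2, one_pow]

/-! ### The centralizer system of a normal subgroup -/

/-- The centralizer system of `Q`. -/
noncomputable def cSys (F : FusionSystem S) (Q : Subgroup Ω) (hQ : Q ≤ S) :
    FusionSystem (centralizerIn S Q) :=
  cSystem F (centralizerIn S Q) Q le_rfl hQ

omit [Finite S] [Fact p.Prime] in
theorem isCentralizerSystem_cSys (hQ : Q ≤ S) : F.IsCentralizerSystem Q (cSys F Q hQ) := fun _ =>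
  Set.ext fun _ => by
    rw [mem_hom_iff, mem_centralizerHom_iff]
    exact isMap_cSystem_iff

omit [Finite S] [Fact p.Prime] in
theorem stronglyClosed_centralizerIn (hQ : F.IsNormal Q) :
    F.StronglyClosed (centralizerIn S Q) := by
  refine stronglyClosed_iff.2 ⟨inf_le_left, fun R f hR hf x hx => ?_⟩
  obtain ⟨g, hg, hgf, hgQ⟩ := (isNormal_iff.1 hQ).2 R f hf
  have h1 := map_mem_centralizerIn hg le_sup_right (Subgroup.mem_sup_left (T := Q) hx) (hR hx).2
  rwa [hgQ, hgf x hx] at h1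

theorem cSys_isWeaklyNormalIn (hS : IsPGroup p S) (hF : F.IsSaturated p) (hQ : F.IsNormal Q) :
    (cSys F Q hQ.1).IsWeaklyNormalIn F p := by
  have hU := stronglyClosed_centralizerIn hQ
  refine ⟨isSaturated_centralizerSystem hS hF
    (isFullyCentralized_of_stronglyClosed' hQ) (isCentralizerSystem_cSys hQ.1), hF, ?_⟩
  have hsub : (cSys F Q hQ.1).IsSubsystemOf F := fun _ _ hφ =>
    mem_hom_iff.2 (isMap_cSystem_iff.1 (isMap_toFun hφ)).isMap
  refine (isInvariantIn_iff_strongInv hS hF hsub hU).2 fun P P₀ f g hPP₀ hP₀ hf hfP₀ hg => ?_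
  obtain ⟨hPU, -, k, hk, hkf, hkQ⟩ := isMap_cSystem_iff.1 hf
  obtain ⟨g₁, hg₁, hg₁g, hg₁Q⟩ := (isNormal_iff.1 hQ).2 P₀ g hg
  obtain ⟨g₁', hg₁', hg₁'1, -⟩ := hg₁.exists_inv
  have hgP := hg.mono hPP₀
  have hle : P ⊔ Q ≤ P₀ ⊔ Q := sup_le_sup_right hPP₀ Q
  have hdom : img P g ⊔ Q ≤ img (P ⊔ Q) g₁ :=
    le_inv_source (hg₁.mono hle) (fun x hx => hg₁g x (hPP₀ hx)) hg₁Q
  have hkW : ∀ z ∈ P ⊔ Q, k z ∈ P₀ ⊔ Q := fun z hz => hk.map_mem_of_sup
    (fun x hx => Subgroup.mem_sup_left (hkf x hx ▸ hfP₀ x hx))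
    (fun x hx => Subgroup.mem_sup_right ((hkQ x hx).symm ▸ hx)) hz
  have h1 : IsMap F (img (P ⊔ Q) g₁) (g₁ ∘ (k ∘ g₁')) :=
    ((hg₁'.mono (hg₁.img_mono hle)).comp hk fun y hy => by
      obtain ⟨x, hx, rfl⟩ := (hg₁.mono hle).mem_img.1 hy
      rwa [hg₁'1 x (hle hx)]).comp hg₁ fun y hy => by
        obtain ⟨x, hx, rfl⟩ := (hg₁.mono hle).mem_img.1 hy
        show k (g₁' (g₁ x)) ∈ _
        rw [hg₁'1 x (hle hx)]
        exact hkW x hx
  have hval : ∀ x ∈ P, (g₁ ∘ (k ∘ g₁')) (g x) = g (f x) := fun x hx => by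
    show g₁ (k (g₁' (g x))) = g (f x)
    rw [← hg₁g x (hPP₀ hx), hg₁'1 x (hle (Subgroup.mem_sup_left hx)), hkf x hx,
      hg₁g _ (hfP₀ x hx)]
  have hgU : ∀ y ∈ P₀, g y ∈ centralizerIn S Q := (stronglyClosed_iff.1 hU).2 P₀ g hP₀ hg
  refine ⟨g₁ ∘ (k ∘ g₁'), isMap_cSystem_iff.2 ⟨hgP.img_le_of_forall fun x hx => hgU x (hPP₀ hx),
    fun y hy => ?_, _, h1.mono hdom, fun _ _ => rfl, fun y hy => ?_⟩, hval⟩
  · obtain ⟨x, hx, rfl⟩ := hgP.mem_img.1 hy
    rw [hval x hx]
    exact hgU _ (hfP₀ x hx)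
  · obtain ⟨x, hx, rfl⟩ := (hg₁.mono le_sup_right).mem_img.1 (hg₁Q.ge hy)
    show g₁ (k (g₁' (g₁ x))) = g₁ x
    rw [hg₁'1 x (Subgroup.mem_sup_right hx), hkQ x hx]
where
  isFullyCentralized_of_stronglyClosed' (hQ : F.IsNormal Q) : F.IsFullyCentralized Q :=
    ⟨hQ.1, fun R hR => by
      obtain ⟨f, hf, rfl⟩ := isConj_iff.1 hR
      obtain ⟨α, -, hα⟩ := autExtends_of_isNormal hQ Q f le_rfl hf
      rw [img_eq_of_map_le hQ.1 hf le_rfl fun x hx => hα x hx ▸ autFun_mem α hx]⟩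

/-- The centralizer system of a normal subgroup is normal. -/
theorem cSys_isNormalIn (hS : IsPGroup p S) (hF : F.IsSaturated p) (hQ : F.IsNormal Q) :
    (cSys F Q hQ.1).IsNormalIn F p := by
  refine ⟨cSys_isWeaklyNormalIn hS hF hQ, ?_⟩
  set U := centralizerIn S Q with hU
  intro α hα
  have hUS : U ≤ S := inf_le_left
  obtain ⟨-, -, g, hg, hgα, hgQ⟩ := isMap_cSystem_iff.1 ((mem_autGroup_iff le_rfl).1 hα)
  set W₀ := U ⊔ Q with hW₀
  have hsc : F.StronglyClosed W₀ := by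
    rw [hW₀, sup_comm]; exact stronglyClosed_sup_centralizer hQ
  have hgi : img W₀ g = W₀ := img_eq_of_map_le hsc.1 hg le_rfl fun z hz => hg.map_mem_of_sup
    (fun x hx => Subgroup.mem_sup_left (hgα x hx ▸ autFun_mem α hx))
    (fun x hx => Subgroup.mem_sup_right ((hgQ x hx).symm ▸ hx)) hz
  have hfn : F.IsFullyNormalized W₀ := ⟨hsc.1, fun R _ =>
    card_le_of_le' inf_le_left (inf_le_left.trans (le_normalizerIn_of_stronglyClosed hsc))⟩
  obtain ⟨ψ, hψ, hψg⟩ :=
    (isReceptive_iff.1 (IsSaturated.automized_receptive hS hF hfn).2).2 W₀ g hg hgi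
  have hQsc := stronglyClosed_of_isNormal hQ
  have hext : U ⊔ centralizerIn S U ≤ extSub S W₀ g := by
    refine sup_le ((le_sup_left : U ≤ W₀).trans (le_extSub hg)) fun c hc => ?_
    refine ⟨le_normalizerIn_of_stronglyClosed hsc hc.1, c, hc.1, fun x hx => ?_⟩
    have hx' : x ∈ (W₀ : Set Ω) := hx
    rw [hW₀, coe_mul_of_left_le_normalizer_right U Q
      (inf_le_right.trans (Subgroup.centralizer_le_normalizer _))] at hx'
    obtain ⟨u, hu, q, hq, rfl⟩ := Set.mem_mul.1 hx'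
    have hq' : c * q * c⁻¹ ∈ Q := conj_mem_of_stronglyClosed hQsc hc.1 hq
    have hgu : g u ∈ U := hgα u hu ▸ autFun_mem α hu
    have e1 : c * u * c⁻¹ = u := by
      rw [← Subgroup.mem_centralizer_iff.1 hc.2 u hu, mul_inv_cancel_right]
    have e2 : c * g u * c⁻¹ = g u := by
      rw [← Subgroup.mem_centralizer_iff.1 hc.2 _ hgu, mul_inv_cancel_right]
    rw [show c * (u * q) * c⁻¹ = (c * u * c⁻¹) * (c * q * c⁻¹) by group, e1,
      hg.map_mul (Subgroup.mem_sup_left hu) (Subgroup.mem_sup_right hq'), hgQ _ hq',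
      hg.map_mul (Subgroup.mem_sup_left hu) (Subgroup.mem_sup_right hq), hgQ q hq]
    conv_lhs => rw [← e2]
    group
  have hQX : Q ≤ extSub S W₀ g := (le_sup_right : Q ≤ W₀).trans (le_extSub hg)
  set W := U ⊔ centralizerIn S U with hW
  have hWS : W ≤ S := sup_le hUS inf_le_left
  have hψU : ∀ x ∈ U, ψ x = autFun α x := fun x hx => by
    rw [hψg x (Subgroup.mem_sup_left hx), hgα x hx]
  have hψm := hψ.mono hext
  have hψi : img U ψ = U := (IsMap.img_congr hψU).trans (img_autFun α)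
  have hψc : ∀ c ∈ centralizerIn S U, ψ c ∈ centralizerIn S U := fun c hc => by
    have h1 := map_mem_centralizerIn hψm le_sup_left (Subgroup.mem_sup_right hc) hc.2
    rwa [hψi] at h1
  have hψW : img W ψ = W := img_eq_of_map_le hWS hψm le_rfl fun z hz => hψm.map_mem_of_sup
    (fun x hx => Subgroup.mem_sup_left (hψU x hx ▸ autFun_mem α hx))
    (fun c hc => Subgroup.mem_sup_right (hψc c hc)) hz
  refine ⟨autOf hψm hψW, autOf_mem hψm hψW, fun x => ?_, fun c hc => ?_⟩
  · rw [← autFun_coe, ← autFun_coe, Subgroup.coe_inclusion,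
      autFun_autOf hψm hψW (Subgroup.mem_sup_left x.2), hψU x x.2]
  rw [← autFun_coe, autFun_autOf hψm hψW c.2]
  have hv := hψc c hc
  refine ⟨⟨S.mul_mem (S.inv_mem hc.1) hv.1, Subgroup.mem_centralizer_iff.2 fun q hq => ?_⟩,
    (Subgroup.centralizer (U : Set Ω)).mul_mem ((Subgroup.centralizer (U : Set Ω)).inv_mem hc.2)
      hv.2⟩
  have hq' : (c : Ω) * q * (c : Ω)⁻¹ ∈ Q := conj_mem_of_stronglyClosed hQsc hc.1 hq
  have e1 : ψ ((c : Ω) * q * (c : Ω)⁻¹) = (c : Ω) * q * (c : Ω)⁻¹ := by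
    rw [hψg _ (Subgroup.mem_sup_right hq'), hgQ _ hq']
  have e2 : ψ q = q := by rw [hψg q (Subgroup.mem_sup_right hq), hgQ q hq]
  rw [hψ.map_conj (hext c.2) (hQX hq), e2] at e1
  calc q * ((c : Ω)⁻¹ * ψ c) = (c : Ω)⁻¹ * ((c : Ω) * q * (c : Ω)⁻¹) * ψ c := by group
    _ = _ := by rw [← e1]; group

/-- A constrained centralizer system of a normal subgroup makes the system constrained. -/
theorem isConstrained_of_cSys (hS : IsPGroup p S) (hF : F.IsSaturated p) (hQ : F.IsNormal Q)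
    (hc : (cSys F Q hQ.1).IsConstrained p) : F.IsConstrained p := by
  haveI : Finite (centralizerIn S Q) := finite_of_le inf_le_left
  have hwn := cSys_isWeaklyNormalIn hS hF hQ
  set R := (cSys F Q hQ.1).core
  have hR : F.IsNormal R := isNormal_weaklyNormal_core hS hwn
  have hQR : F.IsNormal (Q ⊔ R) := isNormal_sup hQ hR
  have hRc : (cSys F Q hQ.1).IsCentric R := isCentric_core hc
  refine ⟨hF, Q ⊔ R, hQR, hQR.1, fun X hX => ?_⟩
  obtain ⟨f, hf, rfl⟩ := isConj_iff.1 hX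
  rw [img_eq_of_map_le hQR.1 hf le_rfl
    ((stronglyClosed_iff.1 (stronglyClosed_of_isNormal hQR)).2 _ _ le_rfl hf)]
  exact fun y hy => Subgroup.mem_sup_right (centralizerIn_le_of_isCentric hRc
    ⟨⟨hy.1, Subgroup.centralizer_le (le_sup_left (a := Q) (b := R)) hy.2⟩,
      Subgroup.centralizer_le (le_sup_right (a := Q) (b := R)) hy.2⟩)

end CfsgLib.Fusion.Components
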