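import Cfsg.Agent.Lib.Fusion.System.Components.Existence
import Cfsg.Agent.Lib.Fusion.System.ConstrainedNormalSub
import Cfsg.Prelude.Def_FusionFitting

/-!
# The core centralizes the components

The maps of a normal subsystem `D` over `U` extend to the core `Q` of the system acting trivially on
`Q` modulo `U`.  As the components of `D` centralize `Q ∩ U`, their automorphisms of order prime
to `p` centralize `Q`.
-/

set_option autoImplicit false
set_option linter.style.haveILetI false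
set_option linter.unusedSectionVars false

open Subgroup
open scoped Classical Pointwise commutatorElement

namespace CfsgLib.Fusion.Components

open Cfsg (FusionSystem autInducedBy)
open Cfsg.FusionSystem (normalizerIn centralizerIn preimageAlong)
open CfsgLib.Fusion

universe u

variable {Ω : Type u} [Group Ω] {S U V : Subgroup Ω} {F : FusionSystem S} {D : FusionSystem U}
  {p : ℕ} [Finite S] [Fact p.Prime] {P Q R X : Subgroup Ω} {f g : Ω → Ω}

/-- A `p`-element of the automizer of the whole group is inner. -/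
theorem exists_mem_of_pElement_top (hS : IsPGroup p S) (hF : F.IsSaturated p) {a : MulAut S}
    (ha : a ∈ F.autGroup S) {k : ℕ} (hk : a ^ p ^ k = 1) :
    ∃ s ∈ S, ∀ x ∈ S, autFun a x = s * x * s⁻¹ := by
  haveI := finite_mulAut (P := S)
  obtain ⟨-, hi⟩ := (isFullyAutomized_iff hS).1
    (IsSaturated.automized_receptive hS hF isFullyNormalized_self).1
  obtain ⟨δ, hδ, hδA⟩ := exists_conj_le_of_not_dvd_relIndex (isPGroup_autInducedBy hS)
    (autInducedBy_le_autGroup le_rfl) hi (isPGroup_zpowers_of_pow hk) (Subgroup.zpowers_le.2 ha)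
  obtain ⟨t, ht, htx⟩ := mem_autInducedBy_iff.1 (hδA (conj_mem_conjBy (Subgroup.mem_zpowers a)))
  refine ⟨autFun δ⁻¹ t, autFun_mem _ ht, fun x hx => ?_⟩
  have h1 := htx _ (autFun_mem δ hx)
  rw [autFun_mul _ _ (autFun_mem δ hx), PPrime.autFun_symm hx, autFun_mul _ _ hx] at h1
  have h2 := congrArg (autFun δ⁻¹) h1
  rwa [PPrime.autFun_symm (autFun_mem a hx),
    ((mem_autGroup_iff le_rfl).1 (inv_mem hδ)).map_conj ht (autFun_mem δ hx),
    PPrime.autFun_symm hx] at h2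

/-- `f` extends to `P Q`, normalizing `Q` and trivially on `Q` modulo `U`. -/
def ExtMod (F : FusionSystem S) (U Q P : Subgroup Ω) (f : Ω → Ω) : Prop :=
  ∃ g, IsMap F (P ⊔ Q) g ∧ (∀ x ∈ P, g x = f x) ∧ img Q g = Q ∧ ∀ q ∈ Q, q⁻¹ * g q ∈ U

omit [Finite S] [Fact p.Prime] in
theorem ExtMod.mono (h : ExtMod F U Q P f) (hR : R ≤ P) : ExtMod F U Q R f := by
  obtain ⟨g, hg, hgf, hgQ, hgm⟩ := h
  exact ⟨g, hg.mono (sup_le_sup_right hR Q), fun x hx => hgf x (hR hx), hgQ, hgm⟩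

omit [Finite S] [Fact p.Prime] in
theorem ExtMod.congr (h : ExtMod F U Q P f) (he : ∀ x ∈ P, g x = f x) : ExtMod F U Q P g := by
  obtain ⟨k, hk, hkf, hkQ, hkm⟩ := h
  exact ⟨k, hk, fun x hx => (hkf x hx).trans (he x hx).symm, hkQ, hkm⟩

omit [Fact p.Prime] in
theorem ExtMod.comp (hU : F.StronglyClosed U) (hf : ExtMod F U Q P f) (hg : ExtMod F U Q R g)
    (hm : ∀ x ∈ P, f x ∈ R) : ExtMod F U Q P (g ∘ f) := by
  obtain ⟨k, hk, hkf, hkQ, hkm⟩ := hf
  obtain ⟨l, hl, hlg, hlQ, hlm⟩ := hg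
  have hkR : ∀ z ∈ P ⊔ Q, k z ∈ R ⊔ Q := fun z hz => hk.map_mem_of_sup
    (fun x hx => Subgroup.mem_sup_left (hkf x hx ▸ hm x hx))
    (fun x hx => Subgroup.mem_sup_right (mem_of_img_eq hk le_sup_right hkQ hx)) hz
  refine ⟨l ∘ k, hk.comp hl hkR, fun x hx => ?_, ?_, fun q hq => ?_⟩
  · show l (k x) = g (f x)
    rw [hkf x hx, hlg _ (hm x hx)]
  · rw [← img_img (hk.mono le_sup_right), hkQ, hlQ]
  · show q⁻¹ * l (k q) ∈ U
    have hu : q⁻¹ * k q ∈ Q := mul_mem (inv_mem hq) (mem_of_img_eq hk le_sup_right hkQ hq)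
    have hlm' := SubsystemCentric.map_mem_of_stronglyClosed hU hl (Subgroup.mem_sup_right hu)
      (hkm q hq)
    rw [show k q = q * (q⁻¹ * k q) by group,
      hl.map_mul (Subgroup.mem_sup_right hq) (Subgroup.mem_sup_right hu), ← mul_assoc]
    exact mul_mem (hlm q hq) hlm'

omit [Finite S] [Fact p.Prime] in
theorem extMod_conj (hQ : F.IsNormal Q) (hU : F.StronglyClosed U) (hP : P ≤ U) {t : Ω}
    (ht : t ∈ U) : ExtMod F U Q P (fun x => t * x * t⁻¹) := by
  have htS := hU.1 ht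
  refine ⟨_, isMap_conj (sup_le (hP.trans hU.1) hQ.1) htS, fun _ _ => rfl,
    (img_conj Q t).trans (conjBy_eq_iff.2
      (le_normalizerIn_of_stronglyClosed (stronglyClosed_of_isNormal hQ) htS).2), fun q hq => ?_⟩
  rw [← mul_assoc, ← mul_assoc]
  refine mul_mem ?_ (inv_mem ht)
  have := conj_mem_of_stronglyClosed hU (inv_mem (hQ.1 hq)) ht
  rwa [inv_inv] at this

/-- `p`-elements of the automizers of a normal subsystem. -/
theorem extMod_pElement (hS : IsPGroup p S) (hD : D.IsNormalIn F p) (hQ : F.IsNormal Q)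
    (hR : R ≤ U) {a : MulAut R} (ha : a ∈ D.autGroup R) {k : ℕ} (hk : a ^ p ^ k = 1) :
    ExtMod F U Q R (autFun a) := by
  have hU := hD.1.2.2.2.1
  haveI : Finite U := finite_of_le hU.1
  obtain ⟨θ, hθ, -, hθA⟩ := exists_conj_pAut (hS.to_le hU.1) hD.1.1 hR (isPGroup_zpowers_of_pow hk)
    (Subgroup.zpowers_le.2 ha)
  obtain ⟨s, hs, hsx⟩ := hθA a (Subgroup.mem_zpowers a)
  obtain ⟨θ₁, hθ₁, hθ₁θ, hθ₁Q⟩ := (isNormal_iff.1 hQ).2 R θ (isMap_of_sub hD.1.2.2.1 hθ)
  obtain ⟨θ', hθ', hθ'1, -⟩ := hθ₁.exists_inv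
  have hsS : s ∈ S := hU.1 hs.1
  have hsQ : ∀ x ∈ Q, s * x * s⁻¹ ∈ Q := fun x hx =>
    conj_mem_of_stronglyClosed (stronglyClosed_of_isNormal hQ) hsS hx
  have hconj := hθ₁.comp (isMap_conj (F := F) (le_refl S) hsS) fun x hx => hθ₁.mem_S hx
  have hθQ : ∀ x ∈ Q, θ₁ x ∈ Q := fun x hx => mem_of_img_eq hθ₁ le_sup_right hθ₁Q hx
  have hRQ : ∀ z ∈ R ⊔ Q, s * θ₁ z * s⁻¹ ∈ img (R ⊔ Q) θ₁ := fun z hz => hconj.map_mem_of_sup
    (fun x hx => by
      show s * θ₁ x * s⁻¹ ∈ _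
      rw [hθ₁θ x hx, ← hsx x hx, ← hθ₁θ _ (autFun_mem a hx)]
      exact hθ₁.mem_img.2 ⟨_, Subgroup.mem_sup_left (autFun_mem a hx), rfl⟩)
    (fun x hx => hθ₁.img_mono le_sup_right (hθ₁Q.ge (hsQ _ (hθQ x hx)))) hz
  have hg := hconj.comp hθ' hRQ
  refine ⟨_, hg, fun x hx => ?_, ?_, fun q hq => ?_⟩
  · show θ' (s * θ₁ x * s⁻¹) = _
    rw [hθ₁θ x hx, ← hsx x hx, ← hθ₁θ _ (autFun_mem a hx),
      hθ'1 _ (Subgroup.mem_sup_left (autFun_mem a hx))]
  · refine img_eq_of_map_le hQ.1 hg le_sup_right fun q hq => ?_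
    show θ' (s * θ₁ q * s⁻¹) ∈ Q
    obtain ⟨q', hq', he⟩ := (hθ₁.mono le_sup_right).mem_img.1 (hθ₁Q.ge (hsQ _ (hθQ q hq)))
    rw [← he, hθ'1 _ (Subgroup.mem_sup_right hq')]
    exact hq'
  · show q⁻¹ * θ' (s * θ₁ q * s⁻¹) ∈ U
    set q' := θ₁ q with hq'
    have hq'Q := hθQ q hq
    have hmem : ∀ {z : Ω}, z ∈ Q → z ∈ img (R ⊔ Q) θ₁ := fun hz =>
      hθ₁.img_mono le_sup_right (hθ₁Q.ge hz)
    have hv : q'⁻¹ * (s * q' * s⁻¹) ∈ U := by
      rw [← mul_assoc, ← mul_assoc]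
      refine mul_mem ?_ (inv_mem hs.1)
      have := conj_mem_of_stronglyClosed hU (inv_mem (hQ.1 hq'Q)) hs.1
      rwa [inv_inv] at this
    have hvQ : q'⁻¹ * (s * q' * s⁻¹) ∈ Q := mul_mem (inv_mem hq'Q) (hsQ _ hq'Q)
    rw [show s * q' * s⁻¹ = q' * (q'⁻¹ * (s * q' * s⁻¹)) by group,
      hθ'.map_mul (hmem hq'Q) (hmem hvQ), hq', hθ'1 _ (Subgroup.mem_sup_right hq),
      inv_mul_cancel_left]
    exact SubsystemCentric.map_mem_of_stronglyClosed hU hθ' (hmem hvQ) hv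

/-- Automorphisms of `U` of order prime to `p` in a normal subsystem over `U`. -/
theorem extMod_coprime_top (hS : IsPGroup p S) (hD : D.IsNormalIn F p) (hQ : F.IsNormal Q)
    {α : MulAut U} (hα : α ∈ D.autGroup U) (hco : (orderOf α).Coprime p) :
    ExtMod F U Q U (autFun α) := by
  have hU := hD.1.2.2.2.1
  have hUS := hU.1
  haveI : Finite U := finite_of_le hUS
  haveI := finite_mulAut (P := U)
  obtain ⟨n, hn⟩ := IsPGroup.iff_card.1 hS
  set C := centralizerIn S U with hC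
  set K := U ⊔ C with hK
  obtain ⟨β, hβ, hβα, hβc⟩ := hD.2 α hα
  have hKS : K ≤ S := sup_le hUS inf_le_left
  have hβm := (mem_autGroup_iff hKS).1 hβ
  obtain ⟨g, hg, hgβ, hgQ⟩ := (isNormal_iff.1 hQ).2 K _ hβm
  have hgU : ∀ u ∈ U, g u = autFun α u := fun u hu => by
    rw [hgβ u (Subgroup.mem_sup_left hu)]
    have := hβα ⟨u, hu⟩
    rwa [← autFun_coe, ← autFun_coe, Subgroup.coe_inclusion] at this
  have hgC : ∀ c ∈ C, c⁻¹ * g c ∈ U := fun c hc => by
    rw [hgβ c (Subgroup.mem_sup_right hc)]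
    have := hβc ⟨c, Subgroup.mem_sup_right hc⟩ hc
    rw [← autFun_coe] at this
    exact this.1
  have hnU : ∀ {y : Ω}, y ∈ S → ∀ {u : Ω}, u ∈ U → y⁻¹ * u * y ∈ U := fun hy u hu => by
    have := conj_mem_of_stronglyClosed hU (inv_mem hy) hu
    rwa [inv_inv] at this
  have hgK : ∀ z ∈ Q, z ∈ K → z⁻¹ * g z ∈ U := by
    intro z hzQ hzK
    have hz' : z ∈ ((C ⊔ U : Subgroup Ω) : Set Ω) := by rw [sup_comm]; exact hzK
    rw [coe_mul_of_left_le_normalizer_right C U
      (inf_le_right.trans (Subgroup.centralizer_le_normalizer _))] at hz'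
    obtain ⟨c, hc, u, hu, rfl⟩ := Set.mem_mul.1 hz'
    rw [hg.map_mul (Subgroup.mem_sup_left (Subgroup.mem_sup_right hc))
      (Subgroup.mem_sup_left (Subgroup.mem_sup_left hu)), hgU u hu,
      show (c * u)⁻¹ * (g c * autFun α u) = u⁻¹ * (c⁻¹ * g c) * autFun α u by group]
    exact mul_mem (mul_mem (inv_mem hu) (hgC c hc)) (autFun_mem α hu)
  have hgQm : ∀ q ∈ Q, g q ∈ Q := fun q hq => mem_of_img_eq hg le_sup_right hgQ hq
  have hgQK : ∀ q ∈ Q, q⁻¹ * g q ∈ K := by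
    intro q hq
    set v := q⁻¹ * g q with hv
    have hvS : v ∈ S := mul_mem (inv_mem (hQ.1 hq)) (hg.mem_S (Subgroup.mem_sup_right hq))
    have hqn : q ∈ Subgroup.normalizer (U : Set Ω) :=
      (le_normalizerIn_of_stronglyClosed hU (hQ.1 hq)).2
    have hvn : v ∈ Subgroup.normalizer (U : Set Ω) := (le_normalizerIn_of_stronglyClosed hU hvS).2
    have hc : conjAut q hqn ∈ F.autGroup U :=
      autInducedBy_le_autGroup hUS (conjAut_mem (hQ.1 hq) hqn)
    have e : conjAut v hvn = (conjAut q hqn)⁻¹ * α * conjAut q hqn * α⁻¹ := by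
      refine autFun_ext fun u hu => ?_
      set w := autFun α⁻¹ u with hw
      have hwU : w ∈ U := autFun_mem _ hu
      have hqw : q * w * q⁻¹ ∈ U := conj_mem_of_stronglyClosed hU (hQ.1 hq) hwU
      rw [autFun_conjAut hvn hu, autFun_mul _ _ hu, ← hw, autFun_mul _ _ hwU,
        autFun_conjAut hqn hwU, autFun_mul _ _ hqw,
        CentralLift.autFun_inv_of_conj (fun z hz => autFun_conjAut hqn hz) (autFun_mem α hqw), ← hgU _ hqw,
        hg.map_conj (Subgroup.mem_sup_right hq) (Subgroup.mem_sup_left (Subgroup.mem_sup_left hwU)),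
        hgU w hwU, hw, PPrime.autFun_symm' hu, hv]
      group
    have hmem : conjAut v hvn ∈ D.autGroup U := by
      rw [e]
      refine mul_mem ?_ (inv_mem hα)
      have := conj_mem_autGroup_top hS hD.1.2.1 hD.1.2.2 (inv_mem hc) hα
      rwa [inv_inv] at this
    have hvp : v ^ p ^ n = 1 := by
      have h1 := congrArg Subtype.val (pow_card_eq_one' (x := (⟨v, hvS⟩ : S)))
      rwa [hn] at h1
    obtain ⟨u₀, hu₀, hu₀v⟩ := exists_mem_of_pElement_top (hS.to_le hUS) hD.1.1 hmem (k := n) (by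
      rw [conjAut, ← map_pow, show (⟨v, hvn⟩ : Subgroup.normalizer (U : Set Ω)) ^ p ^ n = 1 from
        Subtype.ext hvp, map_one])
    rw [show v = u₀ * (u₀⁻¹ * v) by group]
    refine mul_mem (Subgroup.mem_sup_left hu₀) (Subgroup.mem_sup_right
      ⟨S.mul_mem (S.inv_mem (hUS hu₀)) hvS, Subgroup.mem_centralizer_iff.2 fun u hu => ?_⟩)
    have h1 := hu₀v u hu
    rw [autFun_conjAut hvn hu] at h1
    calc u * (u₀⁻¹ * v) = u₀⁻¹ * (u₀ * u * u₀⁻¹) * v := by group
      _ = u₀⁻¹ * v * u := by rw [← h1]; group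
  set W := K ⊔ Q with hW
  have hWS : W ≤ S := sup_le hKS hQ.1
  have hgi : img W g = W := img_eq_of_map_le hWS hg le_rfl fun z hz => hg.map_mem_of_sup
    (fun x hx => Subgroup.mem_sup_left (hgβ x hx ▸ autFun_mem β hx))
    (fun x hx => Subgroup.mem_sup_right (hgQm x hx)) hz
  set G := autOf hg hgi with hGd
  have hGv : ∀ x ∈ W, autFun G x = g x := fun x hx => autFun_autOf hg hgi hx
  have hUW : U ≤ W := le_sup_left.trans le_sup_left
  have hGU : ∀ x ∈ U, autFun G x = autFun α x := fun x hx => by rw [hGv x (hUW hx), hgU x hx]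
  have hpw : ∀ (q : Ω), q ∈ Q → ∀ j : ℕ,
      (q * (q⁻¹ * g q) ^ j)⁻¹ * autFun (G ^ j) q ∈ U := by
    intro q hq j
    set z := q⁻¹ * g q with hz
    have hzQ : z ∈ Q := mul_mem (inv_mem hq) (hgQm q hq)
    induction j with
    | zero =>
      rw [pow_zero, pow_zero, autFun_one (Subgroup.mem_sup_right hq), mul_one, inv_mul_cancel]
      exact one_mem U
    | succ j ih =>
      have hzj : z ^ j ∈ Q := pow_mem hzQ j
      have hu' : (z ^ j)⁻¹ * g (z ^ j) ∈ U := hgK _ hzj (pow_mem (hgQK q hq) j)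
      have hqW : q ∈ W := Subgroup.mem_sup_right hq
      have hzW : q * z ^ j ∈ W := Subgroup.mem_sup_right (mul_mem hq hzj)
      set u₁ := (q * z ^ j)⁻¹ * autFun (G ^ j) q with hu₁
      rw [pow_succ' G, autFun_mul _ _ hqW,
        show autFun (G ^ j) q = q * z ^ j * u₁ by rw [hu₁, mul_inv_cancel_left],
        hGv _ (mul_mem hzW (hUW ih)), hg.map_mul hzW (hUW ih),
        hg.map_mul hqW (Subgroup.mem_sup_right hzj), hgU _ ih,
        show g q = q * z by rw [hz, mul_inv_cancel_left]]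
      rw [show (q * z ^ (j + 1))⁻¹ * (q * z * g (z ^ j) * autFun α u₁) =
          ((z ^ j)⁻¹ * g (z ^ j)) * autFun α u₁ by rw [pow_succ' z]; group]
      exact mul_mem hu' (autFun_mem α ih)
  have hmain : ExtMod F U Q U (autFun (α ^ p ^ n)) := by
    have hGn : IsMap F W (autFun (G ^ p ^ n)) :=
      (mem_autGroup_iff hWS).1 (pow_mem (autOf_mem hg hgi) _)
    refine ⟨_, hGn.mono (sup_le hUW le_sup_right), fun x hx =>
      autFun_pow_eq hUW hGU _ x hx, ?_, fun q hq => ?_⟩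
    · refine img_eq_of_map_le hQ.1 hGn le_sup_right fun q hq => ?_
      have hind : ∀ j : ℕ, autFun (G ^ j) q ∈ Q := fun j => by
        induction j with
        | zero => rw [pow_zero, autFun_one (Subgroup.mem_sup_right hq)]; exact hq
        | succ j ih =>
          rw [pow_succ', autFun_mul _ _ (Subgroup.mem_sup_right hq), hGv _ (Subgroup.mem_sup_right ih)]
          exact hgQm _ ih
      exact hind _
    · have h1 := hpw q hq (p ^ n)
      have hz : (q⁻¹ * g q) ^ p ^ n = 1 := by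
        have h2 := congrArg Subtype.val (pow_card_eq_one'
          (x := (⟨_, hKS (hgQK q hq)⟩ : S)))
        rwa [hn] at h2
      rwa [hz, mul_one] at h1
  obtain ⟨m, hm⟩ := exists_pow_pow_eq hco n
  have hind : ∀ m : ℕ, ExtMod F U Q U (autFun ((α ^ p ^ n) ^ m)) := fun m => by
    induction m with
    | zero =>
      refine (extMod_conj hQ hU le_rfl (one_mem U)).congr fun x hx => ?_
      rw [pow_zero, autFun_one hx]; group
    | succ j ih =>
      exact (hmain.comp hU ih fun x hx => autFun_mem _ hx).congr fun x hx => by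
        rw [pow_succ, autFun_mul _ _ hx]; rfl
  exact hm ▸ hind m

/-- The maps of a normal subsystem extend to a normal subgroup, trivially modulo the subsystem. -/
theorem extMod_of_normal (hS : IsPGroup p S) (hD : D.IsNormalIn F p) (hQ : F.IsNormal Q)
    (hf : IsMap D P f) : ExtMod F U Q P f := by
  have hU := hD.1.2.2.2.1
  haveI : Finite U := finite_of_le hU.1
  haveI := finite_mulAut (P := U)
  have hUp := hS.to_le hU.1
  obtain ⟨α, hα, e, he, hfe⟩ := PPrime.frattini (𝒞 := {R | D.IsCentric R})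
    (fun R hR R' hc => isCentric_of_isConj hR hc) hUp hD.1.1 (fun R hR => hR.1) hf
  have hE : ExtMod F U Q P e := by
    clear hf hfe
    induction he with
    | base hC hle hR hβ hk => exact (extMod_pElement hS hD hQ hR hβ hk).mono hle
    | conj hP hs => exact extMod_conj hQ hU hP hs
    | comp _ _ hm h1 h2 => exact h1.comp hU h2 hm
    | congr _ he h1 => exact h1.congr he
  obtain ⟨i, j, k, hij, hi, hj⟩ := ConstrainedNormalSub.exists_decomp (p := p) α
  have hA : ExtMod F U Q U (autFun α) :=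
    ((extMod_coprime_top hS hD hQ (pow_mem hα j) hj).comp hU
      (extMod_pElement hS hD hQ le_rfl (pow_mem hα i) hi) fun x hx => autFun_mem _ hx).congr
      fun x hx => by
        show autFun α x = autFun (α ^ i) (autFun (α ^ j) x)
        rw [← autFun_mul _ _ hx, ← hij]
  exact (hE.comp hU hA fun x hx => he.isMap.mem_S hx).congr hfe

/-! ### Components centralize the core -/

/-- Normal subgroups meet normal subsystems in normal subgroups. -/
theorem isNormal_inf (hS : IsPGroup p S) (hD : D.IsNormalIn F p) (hQ : F.IsNormal Q) :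
    D.IsNormal (Q ⊓ U) := by
  have hU := hD.1.2.2.2.1
  haveI : Finite U := finite_of_le hU.1
  obtain ⟨n, Qs, h0, hlast, hmono, hi⟩ :=
    exists_series_of_autExtends hS hQ.1 (autExtends_of_isNormal hQ)
  refine isNormal_of_series (hS.to_le hU.1) hD.1.1 (Qs := fun i => Qs i ⊓ U)
    (by simp [h0]) (by simp [hlast]) (fun i j hij => inf_le_inf_right _ (hmono hij))
    (fun i => stronglyClosed_iff.2 ⟨inf_le_right, fun T f hT hf x hx =>
      ⟨(stronglyClosed_iff.1 (hi i).1).2 T f (hT.trans inf_le_left)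
        (isMap_of_sub hD.1.2.2.1 hf) x hx, hf.mem_S hx⟩⟩) fun i => le_inf ?_ ?_
  · exact (Subgroup.commutator_mono inf_le_left inf_le_left).trans (hi i).2
  · refine Subgroup.commutator_le.2 fun a ha b hb => ?_
    rw [commutatorElement_def]
    exact mul_mem (mul_mem (mul_mem ha.2 hb.2) (inv_mem ha.2)) (inv_mem hb.2)

/-- If the maps of a quasisimple subsystem extend to a normal subsystem fixing its part of `Q`,
they extend fixing `Q`. -/
theorem cMap_of_quasisimple (hS : IsPGroup p S) (hD : D.IsNormalIn F p) (hQ : F.IsNormal Q)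
    {K : FusionSystem V} (hKD : K.IsSubsystemOf D) (hVU : V ≤ U) (hq : K.Quasisimple p)
    (hK : ∀ (P : Subgroup Ω) (f : Ω → Ω), IsMap K P f →
      CMap D (centralizerIn U D.core) D.core P f) (hf : IsMap K P f) :
    CMap F (centralizerIn S Q) Q P f := by
  have hU := hD.1.2.2.2.1
  have hUS := hU.1
  have hVS : V ≤ S := hVU.trans hUS
  haveI : Finite U := finite_of_le hUS
  haveI : Finite V := finite_of_le hVS
  obtain ⟨n, hn⟩ := IsPGroup.iff_card.1 hS
  have hW : Q ⊓ U ≤ D.core := le_core (isNormal_inf hS hD hQ)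
  have hQsc := stronglyClosed_of_isNormal hQ
  -- automorphisms of order prime to `p`
  have key : ∀ X ≤ V, ∀ β : K.autGroup X, (orderOf β).Coprime p →
      ∃ g, IsMap F (X ⊔ Q) g ∧ (∀ x ∈ X, g x = autFun (β : MulAut X) x) ∧ ∀ q ∈ Q, g q = q := by
    intro X hX β hβ
    have hXS : X ≤ S := hX.trans hVS
    have hXQ : X ⊔ Q ≤ S := sup_le hXS hQ.1
    obtain ⟨-, -, h, hh, hhb, hhc⟩ := hK X _ ((mem_autGroup_iff hX).1 β.2)
    have hh' := hh.mono (sup_le_sup_left hW X)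
    obtain ⟨g, hg, hgh, hgQ, hgm⟩ := extMod_of_normal hS hD hQ hh'
    have heq : (X ⊔ Q ⊓ U) ⊔ Q = X ⊔ Q := by rw [sup_assoc, sup_eq_right.2 (inf_le_left : Q ⊓ U ≤ Q)]
    rw [heq] at hg
    have hgX : ∀ x ∈ X, g x = autFun (β : MulAut X) x := fun x hx => by
      rw [hgh x (Subgroup.mem_sup_left hx), hhb x hx]
    have hgi : img (X ⊔ Q) g = X ⊔ Q := img_eq_of_map_le hXQ hg le_rfl fun z hz =>
      hg.map_mem_of_sup (fun x hx => Subgroup.mem_sup_left (hgX x hx ▸ autFun_mem _ hx))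
        (fun x hx => Subgroup.mem_sup_right (mem_of_img_eq hg le_sup_right hgQ hx)) hz
    set G := autOf hg hgi
    have hGn : ∀ q ∈ Q, autFun (G ^ p ^ n) q = q := pow_fix_step hXQ hn le_sup_right
      (M := Q ⊓ U) (inf_le_left.trans le_sup_right)
      (fun w hw => by
        rw [autFun_autOf hg hgi (Subgroup.mem_sup_right hw.1), hgh w (Subgroup.mem_sup_right hw),
          hhc w (hW hw)])
      (fun q hq => by
        rw [autFun_autOf hg hgi (Subgroup.mem_sup_right hq)]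
        exact ⟨Q.mul_mem (Q.inv_mem hq) (mem_of_img_eq hg le_sup_right hgQ hq), hgm q hq⟩)
    obtain ⟨m, hm⟩ := exists_pow_pow_eq hβ n
    refine ⟨autFun ((G ^ p ^ n) ^ m),
      (mem_autGroup_iff hXQ).1 (pow_mem (pow_mem (autOf_mem hg hgi) _) _), fun x hx => ?_,
      fun q hq => ?_⟩
    · rw [← pow_mul, autFun_pow_eq (le_sup_left : X ≤ X ⊔ Q) (α := (β : MulAut X))
        (fun y hy => by rw [autFun_autOf hg hgi (Subgroup.mem_sup_left hy), hgX y hy]) _ x hx,
        pow_mul, ← Subgroup.coe_pow, ← Subgroup.coe_pow, hm]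
    · have hind : ∀ m : ℕ, autFun ((G ^ p ^ n) ^ m) q = q := fun m => by
        induction m with
        | zero => rw [pow_zero, autFun_one (Subgroup.mem_sup_right hq)]
        | succ j ih => rw [pow_succ', autFun_mul _ _ (Subgroup.mem_sup_right hq), ih, hGn q hq]
      exact hind m
  -- `V` centralizes `Q`
  have hVQ : V ≤ centralizerIn S Q := by
    have habs : Absorbs K p (V ⊓ Subgroup.centralizer (Q : Set Ω)) := by
      have hn' : ∀ s ∈ V, ∀ y ∈ V ⊓ Subgroup.centralizer (Q : Set Ω),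
          s * y * s⁻¹ ∈ V ⊓ Subgroup.centralizer (Q : Set Ω) := fun s hs y hy => by
        refine ⟨V.mul_mem (V.mul_mem hs hy.1) (V.inv_mem hs), Subgroup.mem_centralizer_iff.2 fun q hq => ?_⟩
        have h1 : s⁻¹ * q * s ∈ Q := by
          have := conj_mem_of_stronglyClosed hQsc (inv_mem (hVS hs)) hq
          rwa [inv_inv] at this
        have h2 := Subgroup.mem_centralizer_iff.1 hy.2 _ h1
        calc q * (s * y * s⁻¹) = s * (s⁻¹ * q * s * y) * s⁻¹ := by group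
          _ = s * y * s⁻¹ * q := by rw [h2]; group
      refine ⟨inf_le_left, fun s hs => Subgroup.mem_normalizer_iff.2 fun y =>
        ⟨hn' s hs y, fun hy => ?_⟩, fun X hX β hβ x hx => ?_⟩
      · have h1 := hn' s⁻¹ (inv_mem hs) _ hy
        simpa [mul_assoc] using h1
      obtain ⟨g, hg, hgβ, hgQ⟩ := key X hX β hβ
      refine ⟨V.mul_mem (V.inv_mem (hX hx)) (hX (autFun_mem _ hx)),
        Subgroup.mem_centralizer_iff.2 fun q hq => ?_⟩
      have hq' : x * q * x⁻¹ ∈ Q := conj_mem_of_stronglyClosed hQsc (hVS (hX hx)) hq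
      have h1 := hgQ _ hq'
      rw [hg.map_conj (Subgroup.mem_sup_left hx) (Subgroup.mem_sup_right hq), hgQ q hq,
        hgβ x hx] at h1
      calc q * (x⁻¹ * autFun (β : MulAut X) x)
          = x⁻¹ * (x * q * x⁻¹) * autFun (β : MulAut X) x := by group
        _ = _ := by rw [← h1]; group
    have h1 := hyperfocal_le habs
    rw [hq.2.1] at h1
    exact fun v hv => ⟨hVS hv, (h1 hv).2⟩
  have hkey : IsMap (cSystem F V Q hVQ hQ.1) P f := by
    refine isMap_of_autGroup_le (hS.to_le hVS) hq.1 (fun R hR α hα => ?_) hf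
    have hRn : K.IsFullyNormalized R := by
      rcases hR with rfl | hR
      · exact isFullyNormalized_self
      · exact hR.2.1
    obtain ⟨s, hs, β, hβ, he⟩ := exists_conj_mul_residual
      (IsSaturated.automized_receptive (hS.to_le hVS) hq.1 hRn).1 ⟨α, hα⟩
    have hres : (β : MulAut R) ∈ (cSystem F V Q hVQ hQ.1).autGroup R := by
      refine Subgroup.mem_comap.1 ((Subgroup.closure_le
        (((cSystem F V Q hVQ hQ.1).autGroup R).comap (K.autGroup R).subtype)).2 (fun b hb => ?_) hβ)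
      obtain ⟨g, hg, hgb, hgQ⟩ := key R hRn.1 b hb
      exact (mem_autGroup_iff hRn.1).2 (isMap_cSystem_iff.2
        ⟨hRn.1, fun x hx => hRn.1 (autFun_mem _ hx), g, hg, hgb, hgQ⟩)
    have h2 : conjAut s hs.2 * (β : MulAut R) ∈ (cSystem F V Q hVQ hQ.1).autGroup R :=
      mul_mem (autInducedBy_le_autGroup hRn.1 (conjAut_mem hs.1 hs.2)) hres
    rwa [show α = conjAut s hs.2 * (β : MulAut R) from autFun_ext fun z hz => by
      rw [show autFun α z = _ from he z hz, autFun_mul _ _ hz,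
        autFun_conjAut hs.2 (autFun_mem _ hz)]]
  obtain ⟨h1, h2, h3⟩ := isMap_cSystem_iff.1 hkey
  exact ⟨h1.trans hVQ, fun x hx => hVQ (h2 x hx), h3⟩

omit [Finite S] [Fact p.Prime] in
theorem subnormal_isSubsystemOf {C : FusionSystem V} (h : C.IsSubnormalIn F p) :
    C.IsSubsystemOf F := by
  induction h with
  | refl => exact fun _ _ h => h
  | step _ hN ih => exact fun P φ hφ => hN.1.2.2.1 P (ih P hφ)

omit [Finite S] [Fact p.Prime] in
/-- The maps of components extend fixing the core. -/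
theorem component_centralizes_core {K : FusionSystem V} (h : K.IsSubnormalIn F p) :
    Fact p.Prime → Finite S → IsPGroup p S → K.Quasisimple p →
      ∀ (P : Subgroup Ω) (f : Ω → Ω), IsMap K P f → CMap F (centralizerIn S F.core) F.core P f := by
  induction h with
  | @refl F p =>
    intro hp hfin hS hq P f hf
    have hle := core_le_center_of_quasisimple hS hq
    obtain ⟨g, hg, hgf, hgc⟩ := (isCentral_iff.1 (isCentral_center (F := F))).2 P f hf
    have hSc : ∀ x ∈ V, x ∈ centralizerIn V F.core := fun x hx =>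
      ⟨hx, Subgroup.mem_centralizer_iff.2 fun q hq' =>
        (Subgroup.mem_centralizer_iff.1 (F.center_le_centralizer (hle hq')) x hx).symm⟩
    exact ⟨fun x hx => hSc x (hf.le hx), fun x hx => hSc _ (hf.mem_S hx), g,
      hg.mono (sup_le_sup_left hle P), hgf, fun x hx => hgc x (hle hx)⟩
  | @step U S E D F p hED hDF ih =>
    intro hp hfin hS hq P f hf
    have hle := hDF.1.2.2.2.1.1
    exact cMap_of_quasisimple hS hDF isNormal_core (subnormal_isSubsystemOf hED)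
      (subnormal_le hED) hq (ih hp (finite_of_le hle) (hS.to_le hle) hq) hf

/-- The layer centralizes the core. -/
theorem layer_le_centralizer (hS : IsPGroup p S) (hF : F.IsSaturated p) {T : Subgroup Ω}
    {E : FusionSystem T} (hE : E.IsLayerOf F p) (P : Subgroup Ω) :
    E.Hom P ⊆ F.centralizerHom F.core P := by
  have hQ : F.IsNormal F.core := isNormal_core
  have hle := hE.2.2 _ (cSys F F.core hQ.1) (cSys_isNormalIn hS hF hQ) fun V C hC P φ hφ =>
    mem_hom_iff.2 (isMap_cSystem_iff.2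
      (component_centralizes_core hC.1 ‹_› ‹_› hS hC.2 P _ (isMap_toFun hφ)))
  rw [← isCentralizerSystem_cSys hQ.1 P]
  exact hle P

/-! ### Constrained systems and the generalized Fitting subsystem -/

omit [Fact p.Prime] in
theorem isPGroup_mem {s : Ω} (hS : IsPGroup p S) (hs : s ∈ S) : ∃ k : ℕ, s ^ p ^ k = 1 := by
  obtain ⟨k, hk⟩ := hS ⟨s, hs⟩
  exact ⟨k, congrArg Subtype.val hk⟩

/-- Maps of the second factor of a central product are maps of the product. -/
theorem isSubsystemOf_centralProduct {T₁ T₂ T : Subgroup Ω} [Finite T₁] [Finite T₂]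
    {E₁ : FusionSystem T₁} {E₂ : FusionSystem T₂} {D : FusionSystem T}
    (h : Cfsg.FusionSystem.IsCentralProductOf E₁ E₂ D) : E₂.IsSubsystemOf D := by
  obtain ⟨D₀, hprod, Z, θ, hZc, -, -, -, hθ₂, hfac⟩ := h
  obtain ⟨hZS, hker, hr, hhom⟩ := hfac
  haveI : Finite (T₁.prod T₂) := Finite.of_equiv _ (Subgroup.prodEquiv T₁ T₂).symm.toEquiv
  intro P φ hφ
  obtain ⟨hP, hval⟩ := E₂.le_of_mem hφ
  set B := (⊥ : Subgroup Ω).prod P with hB
  have hBS : B ≤ T₁.prod T₂ := Subgroup.prod_mono bot_le hP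
  let ψ : B →* Ω × Ω := MonoidHom.mk' (fun x => (1, φ ⟨(x : Ω × Ω).2, (Subgroup.mem_prod.1 x.2).2⟩))
    fun a b => by simp [← map_mul]
  have hψ : ψ ∈ D₀.Hom B := by
    refine (hprod B ψ).2 ⟨hBS, Cfsg.conjHom _ 1, E₁.conj_mem ?_ (one_mem _), ?_⟩
    · rintro _ ⟨x, hx, rfl⟩
      rw [show (MonoidHom.fst Ω Ω) x = 1 from Subgroup.mem_bot.1 (Subgroup.mem_prod.1 hx).1]
      exact one_mem _
    have heq : B.map (MonoidHom.snd Ω Ω) = P := by
      ext y
      exact ⟨fun ⟨x, hx, hxy⟩ => hxy ▸ (Subgroup.mem_prod.1 hx).2,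
        fun hy => ⟨(1, y), Subgroup.mem_prod.2 ⟨one_mem _, hy⟩, rfl⟩⟩
    refine ⟨φ.comp (Subgroup.inclusion heq.le), mem_hom_iff.2 ?_, fun x h₁ h₂ => ?_⟩
    · refine ((isMap_toFun hφ).mono heq.le).congr fun y hy => ?_
      rw [toFun_apply _ hy, toFun_apply φ (heq.le hy)]
      rfl
    · have hx1 : (x : Ω × Ω).1 = 1 := Subgroup.mem_bot.1 (Subgroup.mem_prod.1 x.2).1
      refine Prod.ext ?_ rfl
      show (1 : Ω) = 1 * (x : Ω × Ω).1 * 1⁻¹
      rw [hx1]
      group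
  obtain ⟨g, hg, hgψ, hgc⟩ := (isCentral_iff.1 (isCentral_center (F := D₀))).2 B _ (isMap_toFun hψ)
  have hPT : P ≤ T := fun y hy => hr.le ⟨⟨(1, y), hBS (Subgroup.mem_prod.2 ⟨one_mem _, hy⟩)⟩,
    hθ₂ y _⟩
  have hpre : preimageAlong θ P ≤ B ⊔ D₀.center := by
    intro x hx
    obtain ⟨hxS, hxP⟩ := mem_preimageAlong.1 hx
    rw [ext1_apply θ hxS] at hxP
    set y := θ ⟨x, hxS⟩ with hy
    have hyB : ((1, y) : Ω × Ω) ∈ B := Subgroup.mem_prod.2 ⟨one_mem _, hxP⟩
    have hz : ((1, y) : Ω × Ω)⁻¹ * x ∈ Z := by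
      refine (hker ⟨_, mul_mem (inv_mem (hBS hyB)) hxS⟩).1 ?_
      rw [show (⟨((1, y) : Ω × Ω)⁻¹ * x, mul_mem (inv_mem (hBS hyB)) hxS⟩ : T₁.prod T₂) =
        ⟨(1, y), hBS hyB⟩⁻¹ * ⟨x, hxS⟩ from rfl, map_mul, map_inv, hθ₂ y (hBS hyB), ← hy,
        inv_mul_cancel]
    rw [show x = (1, y) * ((1, y) : Ω × Ω)⁻¹ * x by group, mul_assoc]
    exact mul_mem (Subgroup.mem_sup_left hyB) (Subgroup.mem_sup_right (hZc hz))
  obtain ⟨χ, hχ, hχg⟩ := hg.mono hpre
  refine (hhom P φ).2 ⟨hPT, χ, hχ, preimageAlong_le θ P, fun x => (D₀.le_of_mem hχ).2 x,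
    fun x => by rw [← ext1_apply θ]; exact (mem_preimageAlong.1 x.2).2, fun x => ?_⟩
  have hxS := preimageAlong_le θ P x.2
  set y := θ ⟨x, hxS⟩ with hy
  have hyP : y ∈ P := by rw [hy, ← ext1_apply θ]; exact (mem_preimageAlong.1 x.2).2
  have hyB : ((1, y) : Ω × Ω) ∈ B := Subgroup.mem_prod.2 ⟨one_mem _, hyP⟩
  set z := ((1, y) : Ω × Ω)⁻¹ * (x : Ω × Ω) with hz
  have hzZ : z ∈ Z := by
    refine (hker ⟨_, mul_mem (inv_mem (hBS hyB)) hxS⟩).1 ?_
    rw [show (⟨((1, y) : Ω × Ω)⁻¹ * x, mul_mem (inv_mem (hBS hyB)) hxS⟩ : T₁.prod T₂) =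
      ⟨(1, y), hBS hyB⟩⁻¹ * ⟨x, hxS⟩ from rfl, map_mul, map_inv, hθ₂ y (hBS hyB), ← hy,
      inv_mul_cancel]
  have hv : χ x = ((1, φ ⟨y, hyP⟩) : Ω × Ω) * z := by
    rw [hχg x, show ((x : Ω × Ω)) = (1, y) * z by rw [hz, mul_inv_cancel_left],
      hg.map_mul (Subgroup.mem_sup_left hyB) (Subgroup.mem_sup_right (hZc hzZ)), hgc z (hZc hzZ),
      hgψ _ hyB, toFun_apply ψ hyB]
    rfl
  have hφS : ((1, φ ⟨y, hyP⟩) : Ω × Ω) ∈ T₁.prod T₂ :=
    Subgroup.mem_prod.2 ⟨one_mem _, hval _⟩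
  rw [show (⟨χ x, (D₀.le_of_mem hχ).2 x⟩ : T₁.prod T₂) = ⟨_, hφS⟩ * ⟨z, hZS hzZ⟩ from
    Subtype.ext hv, map_mul, hθ₂ _ hφS, (hker ⟨z, hZS hzZ⟩).2 hzZ, mul_one]

/-- The constrained systems are those with the core as generalized Fitting subsystem. -/
theorem isConstrained_iff_fitting (hS : IsPGroup p S) (hF : F.IsSaturated p) :
    F.IsConstrained p ↔ (Cfsg.innerFusionSystem F.core).IsGeneralizedFittingOf F p := by
  have hQ : F.IsNormal F.core := isNormal_core
  haveI : Finite F.core := finite_of_le hQ.1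
  rw [isConstrained_iff_no_component hS hF]
  constructor
  · intro hno
    refine ⟨⊥, Cfsg.innerFusionSystem ⊥, ⟨inner_isNormalIn hS hF isNormal_bot,
      fun U C hC => absurd ⟨U, C, hC⟩ hno, fun R D hD _ => inner_isSubsystemOf bot_le⟩, ?_⟩
    set Q := F.core with hQdef
    let D₀ : FusionSystem (Q.prod (⊥ : Subgroup Ω)) := Cfsg.innerFusionSystem _
    refine ⟨D₀, fun P φ => ⟨?_, ?_⟩, ⊥, (MonoidHom.fst Ω Ω).comp (Q.prod ⊥).subtype, bot_le,
      bot_inf_eq _, bot_inf_eq _, fun _ _ => rfl, fun y hy => ?_, bot_le, fun s => ?_, ?_,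
      fun P' φ' => ⟨?_, ?_⟩⟩
    · rintro ⟨hP, g, hg, hgφ⟩
      refine ⟨hP, Cfsg.conjHom _ g.1, (Cfsg.innerFusionSystem Q).conj_mem ?_
        (Subgroup.mem_prod.1 hg).1, Cfsg.conjHom _ g.2,
        (Cfsg.innerFusionSystem ⊥).conj_mem ?_ (Subgroup.mem_prod.1 hg).2, fun x h₁ h₂ => hgφ x⟩
      · rintro _ ⟨x, hx, rfl⟩; exact (Subgroup.mem_prod.1 (hP hx)).1
      · rintro _ ⟨x, hx, rfl⟩; exact (Subgroup.mem_prod.1 (hP hx)).2
    · rintro ⟨hP, φ₁, ⟨-, a, ha, he₁⟩, φ₂, ⟨-, b, hb, he₂⟩, he⟩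
      refine ⟨hP, (a, b), Subgroup.mem_prod.2 ⟨ha, hb⟩, fun x => ?_⟩
      rw [he x ⟨x, x.2, rfl⟩ ⟨x, x.2, rfl⟩, he₁, he₂]
      rfl
    · exact (Subgroup.mem_bot.1 (Subgroup.mem_prod.1 hy).2).symm
    · obtain ⟨h1, h2⟩ := Subgroup.mem_prod.1 s.2
      rw [Subgroup.mem_bot]
      exact ⟨fun h => Prod.ext h (Subgroup.mem_bot.1 h2), fun h => congrArg Prod.fst h⟩
    · ext y
      exact ⟨fun ⟨s, hs⟩ => hs ▸ (Subgroup.mem_prod.1 s.2).1,
        fun hy => ⟨⟨(y, 1), Subgroup.mem_prod.2 ⟨hy, one_mem _⟩⟩, rfl⟩⟩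
    · rintro ⟨hP', g, hg, hgφ⟩
      have hg' : ((g, 1) : Ω × Ω) ∈ Q.prod ⊥ := Subgroup.mem_prod.2 ⟨hg, one_mem _⟩
      refine ⟨hP', Cfsg.conjHom _ (g, 1), D₀.conj_mem (preimageAlong_le _ _) hg',
        preimageAlong_le _ _, fun x => mul_mem (mul_mem hg' (preimageAlong_le _ P' x.2)) (inv_mem hg'),
        fun x => ?_, fun x => (hgφ _).trans rfl⟩
      obtain ⟨z, hz, hzx⟩ := x.2
      show (x : Ω × Ω).1 ∈ P'
      rw [← hzx]
      exact hz
    · rintro ⟨hP', φ, ⟨hP, g, hg, hgφ⟩, h1, h2, h3, h4⟩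
      refine ⟨hP', g.1, (Subgroup.mem_prod.1 hg).1, fun u => ?_⟩
      have huQ := hP' u.2
      have hmem : ((u : Ω), 1) ∈ preimageAlong ((MonoidHom.fst Ω Ω).comp (Q.prod ⊥).subtype) P' :=
        ⟨⟨((u : Ω), 1), Subgroup.mem_prod.2 ⟨huQ, one_mem _⟩⟩, u.2, rfl⟩
      refine (h4 ⟨_, hmem⟩).trans ?_
      show (φ ⟨_, hmem⟩).1 = _
      rw [hgφ]
      rfl
  · rintro ⟨T, E, hE, hcp⟩ ⟨V, C, hC⟩
    haveI : Finite T := finite_of_le hE.1.1.2.2.2.1.1
    have h1 := isSubsystemOf_centralProduct hcp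
    have h2 := hE.2.1 V C hC
    have hV : V ≤ S := subnormal_le hC.1
    haveI : Finite V := finite_of_le hV
    have hbot : C.hyperfocalSubgroup p = ⊥ :=
      hyperfocal_eq_bot_of_inner (hS.to_le hV) fun P f ⟨φ, hφ, hφf⟩ => by
        obtain ⟨-, s, hs, he⟩ := h1 P (h2 P hφ)
        exact ⟨s, isPGroup_mem (hS.to_le hQ.1) hs,
          fun x hx => (hφf ⟨x, hx⟩).symm.trans (he ⟨x, hx⟩)⟩
    rw [hC.2.2.1] at hbot
    refine Cfsg.Agent.S5148.result p (hS.to_le hV) C hC.2 (commute_of_le_center (F := C) ?_)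
    exact hbot.le.trans bot_le

end CfsgLib.Fusion.Components
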