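import Cfsg.Agent.Lib.Fusion.System.Components.Existence

/-!
# Characteristic `p`-type or component type

Centralizers in constrained systems are constrained, by Thompson's `P × Q` lemma.
-/

set_option autoImplicit false
set_option linter.style.haveILetI false
set_option linter.unusedSectionVars false

open Subgroup
open scoped Classical Pointwise commutatorElement

namespace CfsgLib.Fusion.Components

open Cfsg (FusionSystem autInducedBy)
open Cfsg.FusionSystem (normalizerIn centralizerIn)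
open CfsgLib.Fusion

universe u

variable {Ω : Type u} [Group Ω] {S : Subgroup Ω} {F : FusionSystem S}
  {p : ℕ} [Finite S] [Fact p.Prime] {P Q R U V W X : Subgroup Ω} {f g : Ω → Ω}

omit [Finite S] [Fact p.Prime] in
/-- A normal subgroup of a nilpotent group not inside a second one has an element outside it whose
commutators lie inside it. -/
theorem exists_mem_commutator_mem {G : Type*} [Group G] [Group.IsNilpotent G] (M M₁ : Subgroup G)
    [M.Normal] (h : ¬ M ≤ M₁) : ∃ x ∈ M, x ∉ M₁ ∧ ∀ y : G, ⁅x, y⁆ ∈ M₁ := by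
  by_contra hcon
  push Not at hcon
  have hall : ∀ k, M ⊓ Subgroup.lowerCentralSeries (⊤ : Subgroup G) k ≤ M₁ →
      M ≤ M₁ := by
    intro k
    induction k with
    | zero => intro hk; simpa using hk
    | succ k ih =>
      intro hk
      refine ih fun x hx => ?_
      by_contra hx1
      obtain ⟨y, hy⟩ := hcon x hx.1 hx1
      refine hy (hk ⟨?_, ?_⟩)
      · rw [commutatorElement_def, mul_assoc x, mul_assoc x]
        exact mul_mem hx.1 (Subgroup.Normal.conj_mem inferInstance _ (inv_mem hx.1) y)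
      · exact Subgroup.commutator_mem_commutator hx.2 (Subgroup.mem_top y)
  obtain ⟨k, hk⟩ := (Subgroup.nilpotent_iff_lowerCentralSeries).1 ‹Group.IsNilpotent G›
  exact h (hall k (by rw [hk, inf_bot_eq]; exact bot_le))

/-- Thompson's `P × Q` lemma, for an automorphism fixing `V`. -/
theorem fixed_of_centralizer_fixed (hS : IsPGroup p S) (hW : W ≤ S) (hQW : Q ≤ W) (hVW : V ≤ W)
    (hn : V ≤ Subgroup.normalizer (Q : Set Ω)) {a : F.autGroup W} (hco : (orderOf a).Coprime p)
    (hQ : ∀ x ∈ Q, autFun (a : MulAut W) x ∈ Q) (hV : ∀ v ∈ V, autFun (a : MulAut W) v = v)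
    (hC : ∀ x ∈ Q ⊓ Subgroup.centralizer (V : Set Ω), autFun (a : MulAut W) x = x) :
    ∀ x ∈ Q, autFun (a : MulAut W) x = x := by
  have hm : IsMap F W (autFun (a : MulAut W)) := (mem_autGroup_iff hW).1 a.2
  let Q₁ : Subgroup Ω :=
    { carrier := {x | x ∈ Q ∧ autFun (a : MulAut W) x = x}
      one_mem' := ⟨one_mem _, hm.map_one⟩
      mul_mem' := fun {x y} hx hy => ⟨mul_mem hx.1 hy.1, by
        rw [hm.map_mul (hQW hx.1) (hQW hy.1), hx.2, hy.2]⟩
      inv_mem' := fun {x} hx => ⟨inv_mem hx.1, by rw [hm.map_inv (hQW hx.1), hx.2]⟩ }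
  intro x₀ hx₀
  by_contra hne
  have hQS : Q ≤ S := hQW.trans hW
  haveI : Finite Q := finite_of_le hQS
  have hlt : Q₁ < normalizerIn Q Q₁ :=
    lt_normalizerIn (hS.to_le hQS) (fun x hx => hx.1) fun he => hne
      (show x₀ ∈ Q₁ by rw [he]; exact hx₀).2
  set H := Q ⊔ V with hH
  have hHS : H ≤ S := sup_le hQS (hVW.trans hW)
  have hHQ : H ≤ Subgroup.normalizer (Q : Set Ω) := sup_le Subgroup.le_normalizer hn
  set L := normalizerIn H Q₁ with hL
  set N := normalizerIn Q Q₁ with hN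
  have hNL : N ≤ L := inf_le_inf_right _ le_sup_left
  haveI hnorm : (N.subgroupOf L).Normal := ⟨fun n hn' l => by
    have h1 : (l : Ω) * n * (l : Ω)⁻¹ ∈ Q :=
      (Subgroup.mem_normalizer_iff.1 (hHQ l.2.1) _).1 hn'.1
    exact ⟨h1, (Subgroup.normalizer _).mul_mem ((Subgroup.normalizer _).mul_mem l.2.2 hn'.2)
      ((Subgroup.normalizer _).inv_mem l.2.2)⟩⟩
  haveI : Finite L := finite_of_le (inf_le_left.trans hHS)
  haveI : Finite ↥(H ⊓ Subgroup.normalizer (Q₁ : Set Ω)) := finite_of_le (inf_le_left.trans hHS)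
  haveI : Group.IsNilpotent L := (hS.to_le (inf_le_left.trans hHS)).isNilpotent
  obtain ⟨x, hxN, hx1, hxc⟩ := exists_mem_commutator_mem (N.subgroupOf L) (Q₁.subgroupOf L)
    fun hle => hlt.not_ge fun y hy => hle (show (⟨y, hNL hy⟩ : L) ∈ N.subgroupOf L from hy)
  obtain ⟨hxQ, hxn⟩ : (x : Ω) ∈ Q ∧ (x : Ω) ∈ Subgroup.normalizer (Q₁ : Set Ω) := hxN
  set z := (x : Ω)⁻¹ * autFun (a : MulAut W) x with hz
  have hzQ : z ∈ Q := mul_mem (inv_mem hxQ) (hQ _ hxQ)
  have hzc : ∀ q ∈ Q₁, z * q = q * z := fun q hq => by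
    have hq' : (x : Ω) * q * (x : Ω)⁻¹ ∈ Q₁ := (Subgroup.mem_normalizer_iff.1 hxn q).1 hq
    have h1 := hq'.2
    rw [hm.map_conj (hQW hxQ) (hQW hq.1), hq.2] at h1
    calc z * q = (x : Ω)⁻¹ * (autFun (a : MulAut W) x * q * (autFun (a : MulAut W) x)⁻¹) *
          autFun (a : MulAut W) x := by rw [hz]; group
      _ = q * z := by rw [h1, hz]; group
  have hzV : z ∈ Q ⊓ Subgroup.centralizer (V : Set Ω) := by
    refine ⟨hzQ, Subgroup.mem_centralizer_iff.2 fun v hv => ?_⟩
    have hvQ : ∀ q ∈ Q, v * q * v⁻¹ ∈ Q := fun q hq =>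
      (Subgroup.mem_normalizer_iff.1 (hn hv) q).1 hq
    have hvn : v ∈ Subgroup.normalizer (Q₁ : Set Ω) := by
      have key : ∀ u ∈ V, ∀ q ∈ Q₁, u * q * u⁻¹ ∈ Q₁ := fun u hu q hq =>
        ⟨(Subgroup.mem_normalizer_iff.1 (hn hu) q).1 hq.1, by
          rw [hm.map_conj (hVW hu) (hQW hq.1), hq.2, hV u hu]⟩
      refine Subgroup.mem_normalizer_iff.2 fun q => ⟨key v hv q, fun h => ?_⟩
      have h1 := key v⁻¹ (inv_mem hv) _ h
      simpa [mul_assoc] using h1
    have hu : (x : Ω) * v * (x : Ω)⁻¹ * v⁻¹ ∈ Q₁ :=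
      hxc ⟨v, Subgroup.mem_sup_right hv, hvn⟩
    set u := (x : Ω) * v * (x : Ω)⁻¹ * v⁻¹ with hud
    have hvx : v * (x : Ω) * v⁻¹ = u⁻¹ * x := by rw [hud]; group
    have h1 : autFun (a : MulAut W) (v * x * v⁻¹) = v * ((x : Ω) * z) * v⁻¹ := by
      rw [hm.map_conj (hVW hv) (hQW hxQ), hV v hv, hz, mul_inv_cancel_left]
    rw [hvx, hm.map_mul (inv_mem (hQW hu.1)) (hQW hxQ), hm.map_inv (hQW hu.1), hu.2] at h1
    have h2 : u⁻¹ * ((x : Ω) * z) = v * ((x : Ω) * z) * v⁻¹ := by
      rw [← h1, hz, mul_inv_cancel_left]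
    have h3 : v * z * v⁻¹ = z :=
      calc v * z * v⁻¹ = (v * (x : Ω) * v⁻¹)⁻¹ * (v * ((x : Ω) * z) * v⁻¹) := by group
        _ = z := by rw [hvx, ← h2]; group
    exact mul_inv_eq_iff_eq_mul.1 h3
  have haz : autFun (a : MulAut W) z = z := hC z hzV
  obtain ⟨n, hcard⟩ := IsPGroup.iff_card.1 hS
  have key : ∀ k : ℕ, autFun ((a : MulAut W) ^ k) x = x * z ^ k := by
    intro k
    induction k with
    | zero => rw [pow_zero, pow_zero, autFun_one (hQW hxQ), mul_one]
    | succ k ih =>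
      have hzk : autFun (a : MulAut W) (z ^ k) = z ^ k :=
        (Q₁.pow_mem (show z ∈ Q₁ from ⟨hzQ, haz⟩) k).2
      rw [pow_succ', autFun_mul _ _ (hQW hxQ), ih, hm.map_mul (hQW hxQ) (hQW (pow_mem hzQ k)), hzk,
        show autFun (a : MulAut W) x = x * z by rw [hz, mul_inv_cancel_left], pow_succ', mul_assoc]
  obtain ⟨m, hma⟩ := exists_pow_pow_eq hco n
  refine hx1 ⟨hxQ, ?_⟩
  show autFun (a : MulAut W) (x : Ω) = (x : Ω)
  rw [← hma, Subgroup.coe_pow, Subgroup.coe_pow, ← pow_mul, key, pow_mul]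
  have hz1 := congrArg Subtype.val (pow_card_eq_one' (x := (⟨z, hQS hzQ⟩ : S)))
  rw [hcard] at hz1
  rw [show z ^ p ^ n = 1 from hz1, one_pow, mul_one]

/-- Centralizers pulled back from constrained centralizers are constrained. -/
theorem isConstrained_cSys_of_map (hS : IsPGroup p S) (hF : F.IsSaturated p)
    (hU : F.IsFullyCentralized U) (hX : X ≤ S) (hC : (cSys F X hX).IsConstrained p)
    (hg : IsMap F (U ⊔ centralizerIn S U) g) (hgX : X ≤ img U g)
    (hgC : ∀ y ∈ U ⊔ centralizerIn S U, g y ∈ centralizerIn S X) :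
    (cSys F U hU.1).IsConstrained p := by
  set B := centralizerIn S U with hB
  set A := centralizerIn S X with hA
  set C := cSys F X hX
  set D := cSys F U hU.1
  haveI : Finite B := finite_of_le inf_le_left
  haveI : Finite A := finite_of_le inf_le_left
  have hD : D.IsSaturated p :=
    isSaturated_centralizerSystem hS hF hU (isCentralizerSystem_cSys hU.1)
  have hBS : B ≤ S := inf_le_left
  set W₀ := U ⊔ B with hW₀
  set V := img U g with hV
  have hgU : IsMap F U g := hg.mono le_sup_left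
  -- the preimage of the core
  set Q := C.core with hQdef
  have hQ : C.IsNormal Q := isNormal_core
  have hQc : C.IsCentric Q := isCentric_core hC
  have hQA : Q ≤ A := hQ.1
  let Ru : Subgroup Ω :=
    { carrier := {y | y ∈ B ∧ g y ∈ Q}
      one_mem' := ⟨one_mem _, by rw [hg.map_one]; exact one_mem _⟩
      mul_mem' := fun {a b} ha hb => ⟨mul_mem ha.1 hb.1, by
        rw [hg.map_mul (Subgroup.mem_sup_right ha.1) (Subgroup.mem_sup_right hb.1)]
        exact mul_mem ha.2 hb.2⟩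
      inv_mem' := fun {a} ha => ⟨inv_mem ha.1, by
        rw [hg.map_inv (Subgroup.mem_sup_right ha.1)]
        exact inv_mem ha.2⟩ }
  have hgB : img B g = centralizerIn S V := by
    have hle : img B g ≤ centralizerIn S V := (hg.mono le_sup_right).img_le_of_forall fun c hc =>
      map_mem_centralizerIn hg le_sup_left (Subgroup.mem_sup_right hc) hc.2
    refine eq_of_le_of_card_le inf_le_left hle ?_
    rw [(hg.mono le_sup_right).card_img]
    exact hU.2 V (isConj_iff.2 ⟨g, hgU, rfl⟩)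
  obtain ⟨g', hg', hg'1, -⟩ := hg.exists_inv
  -- the transported map and its extension to the core
  have htrans : ∀ {P : Subgroup Ω} {f : Ω → Ω}, IsMap D P f → ∃ h, IsMap C ((img (P ⊔ U) g) ⊔ Q) h ∧
      (∀ x ∈ P, h (g x) = g (f x)) ∧ (∀ u ∈ U, h (g u) = g u) ∧ img Q h = Q := by
    intro P f hf
    obtain ⟨hPB, hfB, k, hk, hkf, hkU⟩ := isMap_cSystem_iff.1 hf
    have hPW : P ⊔ U ≤ W₀ := sup_le (hPB.trans le_sup_right) le_sup_left
    have hkW : ∀ z ∈ P ⊔ U, k z ∈ W₀ := fun z hz => hk.map_mem_of_sup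
      (fun x hx => Subgroup.mem_sup_right (hkf x hx ▸ hfB x hx))
      (fun x hx => Subgroup.mem_sup_left ((hkU x hx).symm ▸ hx)) hz
    have hm : IsMap F (img (P ⊔ U) g) (g ∘ (k ∘ g')) :=
      ((hg'.mono (hg.img_mono hPW)).comp hk fun y hy => by
        obtain ⟨x, hx, rfl⟩ := (hg.mono hPW).mem_img.1 hy
        rwa [hg'1 x (hPW hx)]).comp hg fun y hy => by
          obtain ⟨x, hx, rfl⟩ := (hg.mono hPW).mem_img.1 hy
          show k (g' (g x)) ∈ _
          rw [hg'1 x (hPW hx)]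
          exact hkW x hx
    have hval : ∀ x ∈ P ⊔ U, (g ∘ (k ∘ g')) (g x) = g (k x) := fun x hx => by
      show g (k (g' (g x))) = _
      rw [hg'1 x (hPW hx)]
    have hle : img (P ⊔ U) g ⊔ X = img (P ⊔ U) g :=
      sup_eq_left.2 (hgX.trans ((hg.mono hPW).img_mono le_sup_right))
    have hCm : IsMap C (img (P ⊔ U) g) (g ∘ (k ∘ g')) := by
      refine isMap_cSystem_iff.2 ⟨(hg.mono hPW).img_le_of_forall fun x hx => hgC x (hPW hx),
        fun y hy => ?_, g ∘ (k ∘ g'), by rwa [hle], fun _ _ => rfl, fun y hy => ?_⟩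
      · obtain ⟨x, hx, rfl⟩ := (hg.mono hPW).mem_img.1 hy
        rw [hval x hx]
        exact hgC _ (hkW x hx)
      · obtain ⟨u, hu, rfl⟩ := hgU.mem_img.1 (hgX hy)
        rw [hval u (Subgroup.mem_sup_right hu), hkU u hu]
    obtain ⟨h, hh, hhe, hhQ⟩ := (isNormal_iff.1 hQ).2 _ _ hCm
    refine ⟨h, hh, fun x hx => ?_, fun u hu => ?_, hhQ⟩
    · rw [hhe _ ((hg.mono hPW).mem_img.2 ⟨x, Subgroup.mem_sup_left hx, rfl⟩),
        hval x (Subgroup.mem_sup_left hx), hkf x hx]
    · rw [hhe _ ((hg.mono hPW).mem_img.2 ⟨u, Subgroup.mem_sup_right hu, rfl⟩),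
        hval u (Subgroup.mem_sup_right hu), hkU u hu]
  have hCF : C.IsSubsystemOf F := fun _ _ hφ =>
    mem_hom_iff.2 (isMap_cSystem_iff.1 (isMap_toFun hφ)).isMap
  have hRuB : Ru ≤ B := fun y hy => hy.1
  have hRn : D.IsNormal Ru := by
    refine isNormal_iff.2 ⟨hRuB, fun P f hf => ?_⟩
    obtain ⟨h, hh, hhf, hhU, hhQ⟩ := htrans hf
    have hhF := isMap_of_sub hCF hh
    have hPB : P ≤ B := (isMap_cSystem_iff.1 hf).1
    set Y := (P ⊔ Ru) ⊔ U with hY
    have hYW : Y ≤ W₀ :=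
      sup_le (sup_le (hPB.trans le_sup_right) (hRuB.trans le_sup_right)) le_sup_left
    have hgY : ∀ y ∈ Y, g y ∈ img (P ⊔ U) g ⊔ Q := fun y hy => (hg.mono hYW).map_mem_of_sup
      (fun z hz => (hg.mono (le_sup_left.trans hYW)).map_mem_of_sup
        (fun w hw => Subgroup.mem_sup_left ((hg.mono (sup_le (hPB.trans le_sup_right)
          (le_sup_left : U ≤ W₀))).mem_img.2 ⟨w, Subgroup.mem_sup_left hw, rfl⟩))
        (fun w hw => Subgroup.mem_sup_right hw.2) hz)
      (fun w hw => Subgroup.mem_sup_left ((hg.mono (sup_le (hPB.trans le_sup_right)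
          (le_sup_left : U ≤ W₀))).mem_img.2 ⟨w, Subgroup.mem_sup_right hw, rfl⟩)) hy
    have h2 := (hg.mono hYW).comp hhF hgY
    have hval : ∀ y ∈ Y, h (g y) ∈ img W₀ g := fun y hy => h2.map_mem_of_sup
      (fun z hz => (h2.mono le_sup_left).map_mem_of_sup
        (fun w hw => by
          show h (g w) ∈ _
          rw [hhf w hw]
          exact hg.mem_img.2 ⟨_, Subgroup.mem_sup_right (hf.mem_S hw), rfl⟩)
        (fun w hw => by
          refine hg.img_mono (le_sup_right : B ≤ W₀) (hgB.ge ⟨hhF.mem_S (hgY w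
            (Subgroup.mem_sup_left (Subgroup.mem_sup_right hw))),
            Subgroup.mem_centralizer_iff.2 fun v hv => ?_⟩)
          obtain ⟨u, hu, rfl⟩ := hgU.mem_img.1 hv
          have h3 := Subgroup.mem_centralizer_iff.1 hw.1.2 u hu
          have huY : u ∈ Y := Subgroup.mem_sup_right hu
          have hwY : w ∈ Y := Subgroup.mem_sup_left (Subgroup.mem_sup_right hw)
          calc g u * h (g w) = h (g u) * h (g w) := by rw [hhU u hu]
            _ = h (g (u * w)) := (h2.map_mul huY hwY).symm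
            _ = h (g (w * u)) := by rw [h3]
            _ = h (g w) * h (g u) := h2.map_mul hwY huY
            _ = h (g w) * g u := by rw [hhU u hu]) hz)
      (fun w hw => by
        show h (g w) ∈ _
        rw [hhU w hw]
        exact hg.mem_img.2 ⟨w, Subgroup.mem_sup_left hw, rfl⟩) hy
    have h3 := h2.comp hg' hval
    have hfix : ∀ u ∈ U, g' (h (g u)) = u := fun u hu => by
      rw [hhU u hu, hg'1 u (Subgroup.mem_sup_left hu)]
    have hB3 : ∀ y ∈ Y, y ∈ B → g' (h (g y)) ∈ B := fun y hy hyB => by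
      refine ⟨h3.mem_S hy, Subgroup.mem_centralizer_iff.2 fun u hu => ?_⟩
      have huY : u ∈ Y := Subgroup.mem_sup_right hu
      calc u * g' (h (g y)) = g' (h (g u)) * g' (h (g y)) := by rw [hfix u hu]
        _ = g' (h (g (u * y))) := (h3.map_mul huY hy).symm
        _ = g' (h (g (y * u))) := by rw [Subgroup.mem_centralizer_iff.1 hyB.2 u hu]
        _ = g' (h (g y)) * g' (h (g u)) := h3.map_mul hy huY
        _ = g' (h (g y)) * u := by rw [hfix u hu]
    have hPR : P ⊔ Ru ≤ B := sup_le hPB hRuB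
    have hDm : IsMap D (P ⊔ Ru) (g' ∘ (h ∘ g)) := isMap_cSystem_iff.2 ⟨hPR,
      fun y hy => hB3 y (Subgroup.mem_sup_left hy) (hPR hy), _, h3, fun _ _ => rfl, hfix⟩
    refine ⟨_, hDm, fun x hx => ?_, img_eq_of_map_le hRuB hDm le_sup_right fun y hy => ?_⟩
    · show g' (h (g x)) = f x
      rw [hhf x hx, hg'1 _ (Subgroup.mem_sup_right (hf.mem_S hx))]
    have hyY : y ∈ Y := Subgroup.mem_sup_left (Subgroup.mem_sup_right hy)
    obtain ⟨w, hw, hwe⟩ := hg.mem_img.1 (hval y hyY)
    refine ⟨hB3 y hyY hy.1, ?_⟩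
    show g (g' (h (g y))) ∈ Q
    rw [← hwe, hg'1 w hw, hwe]
    exact mem_of_img_eq hh le_sup_right hhQ hy.2
  refine isConstrained_of_fix (hS.to_le hBS) hD hRn fun Z hZB hRZ β hβ hβR => ?_
  have hZS : Z ≤ S := hZB.trans hBS
  haveI := finite_of_le hZS
  haveI := finite_mulAut (P := Z)
  obtain ⟨h, hh, hhβ, hhU, hhQ⟩ := htrans ((mem_autGroup_iff hZB).1 β.2)
  set Y := img (Z ⊔ U) g ⊔ Q with hY
  have hZW : Z ⊔ U ≤ W₀ := sup_le (hZB.trans le_sup_right) le_sup_left
  have hgZU := hg.mono hZW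
  have hYA : Y ≤ A := hh.le
  have hhY : img Y h = Y := by
    refine img_eq_of_map_le (S := A) hYA hh le_rfl fun y hy => hh.map_mem_of_sup (fun v hv => ?_)
      (fun v hv => Subgroup.mem_sup_right (mem_of_img_eq hh le_sup_right hhQ hv)) hy
    obtain ⟨z, hz, rfl⟩ := hgZU.mem_img.1 hv
    refine (hgZU.comp (isMap_of_sub hCF hh) fun w hw => Subgroup.mem_sup_left (hgZU.mem_img.2 ⟨w, hw, rfl⟩)).map_mem_of_sup
      (fun w hw => ?_) (fun w hw => ?_) hz
    · show h (g w) ∈ _
      rw [hhβ w hw]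
      exact Subgroup.mem_sup_left (hgZU.mem_img.2
        ⟨_, Subgroup.mem_sup_left (autFun_mem _ hw), rfl⟩)
    · show h (g w) ∈ _
      rw [hhU w hw]
      exact Subgroup.mem_sup_left (hgZU.mem_img.2 ⟨w, Subgroup.mem_sup_right hw, rfl⟩)
  haveI := finite_of_le (P := Y) hYA
  haveI := finite_mulAut (P := Y)
  set G : C.autGroup Y := ⟨autOf hh hhY, autOf_mem hh hhY⟩
  obtain ⟨k, hk⟩ := exists_coprime_pow (p := p) G
  set a := G ^ p ^ k with ha
  have hGv : ∀ {z : Ω}, z ∈ Z → autFun (G : MulAut Y) (g z) = g (autFun (β : MulAut Z) z) :=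
    fun hz => by
      rw [autFun_autOf hh hhY (Subgroup.mem_sup_left (hgZU.mem_img.2
        ⟨_, Subgroup.mem_sup_left hz, rfl⟩)), hhβ _ hz]
  have hav : ∀ (j : ℕ) {z : Ω}, z ∈ Z →
      autFun ((G : MulAut Y) ^ j) (g z) = g (autFun ((β : MulAut Z) ^ j) z) := by
    intro j
    induction j with
    | zero =>
      intro z hz
      rw [pow_zero, pow_zero, autFun_one hz, autFun_one (Subgroup.mem_sup_left (hgZU.mem_img.2
        ⟨_, Subgroup.mem_sup_left hz, rfl⟩))]
    | succ j ih =>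
      intro z hz
      rw [pow_succ', pow_succ', autFun_mul _ _ (Subgroup.mem_sup_left (hgZU.mem_img.2
        ⟨_, Subgroup.mem_sup_left hz, rfl⟩)), autFun_mul _ _ hz, ih hz, hGv (autFun_mem _ hz)]
  have haU : ∀ (j : ℕ) (v : Ω), v ∈ V → autFun ((G : MulAut Y) ^ j) v = v := by
    intro j v hv
    obtain ⟨u, hu, rfl⟩ := hgU.mem_img.1 hv
    have hY' : g u ∈ Y := Subgroup.mem_sup_left (hgZU.mem_img.2 ⟨u, Subgroup.mem_sup_right hu, rfl⟩)
    induction j with
    | zero => rw [pow_zero, autFun_one hY']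
    | succ j ih => rw [pow_succ', autFun_mul _ _ hY', ih, autFun_autOf hh hhY hY', hhU u hu]
  have haQ : ∀ (j : ℕ) (q : Ω), q ∈ Q → autFun ((G : MulAut Y) ^ j) q ∈ Q := by
    intro j q hq
    induction j with
    | zero => rwa [pow_zero, autFun_one (Subgroup.mem_sup_right hq)]
    | succ j ih =>
      rw [pow_succ', autFun_mul _ _ (Subgroup.mem_sup_right hq),
        autFun_autOf hh hhY (Subgroup.mem_sup_right ih)]
      exact mem_of_img_eq hh le_sup_right hhQ ih
  have hVY : V ≤ Y := (hgU.img_le_of_forall fun u hu =>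
    hgZU.mem_img.2 ⟨u, Subgroup.mem_sup_right hu, rfl⟩).trans le_sup_left
  have hAS : A ≤ S := inf_le_left
  have hQC : ∀ q ∈ Q, q ∈ Subgroup.centralizer (V : Set Ω) → ∃ y ∈ Ru, g y = q := fun q hq hqV => by
    obtain ⟨y, hy, rfl⟩ := (hg.mono le_sup_right).mem_img.1 (hgB.ge ⟨hAS (hQA hq), hqV⟩)
    exact ⟨y, ⟨hy, hq⟩, rfl⟩
  have hfixQ : ∀ q ∈ Q, autFun (a : MulAut Y) q = q := by
    refine fixed_of_centralizer_fixed (hS.to_le hAS) hYA le_sup_right hVY
      (fun v hv => (le_normalizerIn_of_stronglyClosed (stronglyClosed_of_isNormal hQ)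
        (hYA (hVY hv))).2) hk (fun q hq => ?_) (fun v hv => ?_) (fun q hq => ?_)
    · rw [ha, Subgroup.coe_pow]; exact haQ _ q hq
    · rw [ha, Subgroup.coe_pow]; exact haU _ v hv
    · obtain ⟨y, hy, rfl⟩ := hQC q hq.1 hq.2
      rw [ha, Subgroup.coe_pow, hav _ (hRZ hy)]
      congr 1
      have hj : ∀ j : ℕ, autFun ((β : MulAut Z) ^ j) y = y := fun j => by
        induction j with
        | zero => rw [pow_zero, autFun_one (hRZ hy)]
        | succ j ih => rw [pow_succ', autFun_mul _ _ (hRZ hy), ih, hβR y hy]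
      exact hj _
  set γ := β ^ p ^ k with hγ
  have hstab : ∀ z ∈ Z, z⁻¹ * autFun (γ : MulAut Z) z ∈ Ru := by
    intro z hz
    have hd : z⁻¹ * autFun (γ : MulAut Z) z ∈ B :=
      mul_mem (inv_mem (hZB hz)) (hZB (autFun_mem _ hz))
    refine ⟨hd, ?_⟩
    have hzY : g z ∈ Y := Subgroup.mem_sup_left (hgZU.mem_img.2 ⟨z, Subgroup.mem_sup_left hz, rfl⟩)
    have e : g (z⁻¹ * autFun (γ : MulAut Z) z) = (g z)⁻¹ * autFun (a : MulAut Y) (g z) := by
      rw [hg.map_mul (inv_mem (Subgroup.mem_sup_right (hZB hz)))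
        (Subgroup.mem_sup_right (hZB (autFun_mem _ hz))), hg.map_inv (Subgroup.mem_sup_right (hZB hz)),
        ha, hγ, Subgroup.coe_pow, Subgroup.coe_pow, hav _ hz]
    rw [e]
    refine centralizerIn_le_of_isCentric hQc ⟨A.mul_mem (A.inv_mem (hYA hzY))
      (hYA (autFun_mem _ hzY)), Subgroup.mem_centralizer_iff.2 fun q hq => ?_⟩
    have hq' : g z * q * (g z)⁻¹ ∈ Q :=
      conj_mem_of_stronglyClosed (stronglyClosed_of_isNormal hQ) (hYA hzY) hq
    have h1 := hfixQ _ hq'
    rw [((mem_autGroup_iff hYA).1 a.2).map_conj hzY (Subgroup.mem_sup_right hq), hfixQ q hq] at h1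
    calc q * ((g z)⁻¹ * autFun (a : MulAut Y) (g z))
        = (g z)⁻¹ * (g z * q * (g z)⁻¹) * autFun (a : MulAut Y) (g z) := by group
      _ = _ := by rw [← h1]; group
  obtain ⟨n, hn⟩ := IsPGroup.iff_card.1 hS
  have hfixR : ∀ x ∈ Ru, autFun (γ : MulAut Z) x = x := fun x hx => by
    rw [hγ]
    have : ∀ j : ℕ, autFun ((β ^ j : D.autGroup Z) : MulAut Z) x = x := fun j => by
      induction j with
      | zero => rw [pow_zero, Subgroup.coe_one, autFun_one (hRZ hx)]
      | succ j ih => rw [pow_succ', Subgroup.coe_mul, autFun_mul _ _ (hRZ hx), ih, hβR x hx]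
    exact this _
  have h1 : γ ^ p ^ n = 1 := Subtype.ext (autFun_ext fun x hx => by
    rw [Subgroup.coe_pow, Subgroup.coe_one, autFun_one hx]
    exact pow_fix_step hZS hn le_rfl hRZ hfixR hstab x hx)
  rw [hγ, ← pow_mul, ← pow_add] at h1
  obtain ⟨m, hm⟩ := exists_pow_pow_eq hβ (k + n)
  rw [← hm, h1, one_pow]

omit [Finite S] [Fact p.Prime] in
theorem isConstrained_congr {A B : Subgroup Ω} (h : A = B) {D : FusionSystem A} {E : FusionSystem B}
    (hm : ∀ (P : Subgroup Ω) (f : Ω → Ω), IsMap D P f ↔ IsMap E P f) (hD : D.IsConstrained p) :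
    E.IsConstrained p := by
  subst h
  rwa [show E = D from eq_of_hom fun P => Set.ext fun φ => by
    rw [mem_hom_iff, mem_hom_iff, hm]]

/-- A normalizer system is constrained when the centralizer system is. -/
theorem isConstrained_normalizerSystem (hS : IsPGroup p S) (hF : F.IsSaturated p)
    (hU : F.IsFullyNormalized U) {N : FusionSystem (normalizerIn S U)}
    (hN : F.IsNormalizerSystem U N) (hc : (cSys F U hU.1).IsConstrained p) : N.IsConstrained p := by
  have hNS : normalizerIn S U ≤ S := inf_le_left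
  haveI : Finite (normalizerIn S U) := finite_of_le hNS
  have hNsat := isSaturated_normalizerSystem hS hF hU hN
  have hUN : U ≤ normalizerIn S U := le_normalizerIn hU.1
  have hn : N.IsNormal U := by
    refine isNormal_iff.2 ⟨hUN, fun P f hf => ?_⟩
    obtain ⟨hP, hfN, k, hk, hkf, hkU⟩ := (isMap_of_isNormalizerSystem hN).1 hf
    refine ⟨k, (isMap_of_isNormalizerSystem hN).2 ⟨sup_le hP hUN, fun z hz => hk.map_mem_of_sup
      (fun x hx => hkf x hx ▸ hfN x hx)
      (fun x hx => hUN (mem_of_img_eq hk le_sup_right hkU hx)) hz,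
      k, by rwa [sup_assoc, sup_idem], fun _ _ => rfl, hkU⟩, hkf, hkU⟩
  have hCle : centralizerIn S U ≤ normalizerIn S U := centralizerIn_le_normalizerIn
  have heq : centralizerIn S U = centralizerIn (normalizerIn S U) U := le_antisymm
    (fun x hx => ⟨hCle hx, hx.2⟩) (fun x hx => ⟨hNS hx.1, hx.2⟩)
  refine isConstrained_of_cSys (hS.to_le hNS) hNsat hn (isConstrained_congr heq (fun P f => ?_) hc)
  rw [show IsMap (cSys F U hU.1) P f ↔ _ from isMap_cSystem_iff,
    show IsMap (cSys N U hn.1) P f ↔ _ from isMap_cSystem_iff]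
  constructor
  · rintro ⟨hP, hf, k, hk, hkf, hkU⟩
    refine ⟨hP.trans heq.le, fun x hx => heq.le (hf x hx), k, ?_, hkf, hkU⟩
    exact (isMap_of_isNormalizerSystem hN).2 ⟨sup_le (hP.trans hCle) hUN,
      fun z hz => hk.map_mem_of_sup (fun x hx => hkf x hx ▸ hCle (hf x hx))
        (fun x hx => (hkU x hx).symm ▸ hUN hx) hz,
      k, by rwa [sup_assoc, sup_idem], fun _ _ => rfl, img_eq_self_of_fix hkU⟩
  · rintro ⟨hP, hf, k, hk, hkf, hkU⟩
    exact ⟨hP.trans heq.ge, fun x hx => heq.ge (hf x hx), k,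
      ((isMap_of_isNormalizerSystem hN).1 hk).isMap, hkf, hkU⟩

/-- A saturated system is of characteristic `p`-type or of component type. -/
theorem characteristic_or_componentType (hS : IsPGroup p S) (hF : F.IsSaturated p) :
    F.IsOfCharacteristicPType p ∨ F.IsOfComponentType p := by
  rw [or_iff_not_imp_right]
  intro hnot U hU1 hUn N hN
  haveI : Finite U := finite_of_le hUn.1
  have hUp := hS.to_le hUn.1
  haveI : Nontrivial U := (Subgroup.nontrivial_iff_ne_bot U).2 hU1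
  haveI : Nontrivial (Subgroup.center U) := hUp.center_nontrivial
  obtain ⟨k, hk0, hk⟩ := ((hUp.to_subgroup (Subgroup.center U)).nontrivial_iff_card).1 inferInstance
  obtain ⟨z, hz⟩ := exists_prime_orderOf_dvd_card' (G := Subgroup.center U) p
    (hk ▸ dvd_pow_self p hk0.ne')
  set x := ((z : U) : Ω) with hx
  have hxU : x ∈ U := (z : U).2
  have hxo : orderOf x = p := by rw [hx, Subgroup.orderOf_coe, Subgroup.orderOf_coe, hz]
  have hxc : ∀ u ∈ U, u * x = x * u := fun u hu =>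
    congrArg Subtype.val (Subgroup.mem_center_iff.1 z.2 ⟨u, hu⟩)
  have hX₀S : Subgroup.zpowers x ≤ S := Subgroup.zpowers_le.2 (hUn.1 hxU)
  obtain ⟨X, hX, hXn⟩ := exists_fullyNormalized (F := F) hX₀S
  obtain ⟨f, hf, rfl⟩ := isConj_iff.1 hX
  obtain ⟨g, hg, hgf⟩ := (isReceptive_iff.1
    (IsSaturated.automized_receptive hS hF hXn).2).2 _ f hf rfl
  set X := img (Subgroup.zpowers x) f with hXd
  have hW : U ⊔ centralizerIn S U ≤ centralizerIn S (Subgroup.zpowers x) := by
    refine sup_le (fun u hu => ⟨hUn.1 hu, Subgroup.mem_centralizer_iff.2 fun y hy => ?_⟩)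
      fun c hc => ⟨hc.1, Subgroup.centralizer_le (Subgroup.zpowers_le.2 hxU) hc.2⟩
    obtain ⟨j, rfl⟩ := Subgroup.mem_zpowers_iff.1 hy
    exact (Commute.zpow_right (hxc u hu) j).symm
  have hgW := hg.mono (hW.trans centralizerIn_le_extSub)
  have hzX : Subgroup.zpowers x ≤ U := Subgroup.zpowers_le.2 hxU
  have hXC : ∀ C : FusionSystem (centralizerIn S X), F.IsCentralizerSystem X C → C.IsConstrained p := by
    intro C hC
    by_contra hnc
    haveI : Finite (centralizerIn S X) := finite_of_le inf_le_left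
    refine hnot ⟨X, ?_, hXn, C, hC, exists_component_aux _ _ C ‹_› rfl (hS.to_le inf_le_left)
      (isSaturated_centralizerSystem hS hF ?_ hC) hnc⟩
    · rw [hf.card_img, Nat.card_zpowers, hxo]
    · exact isFullyCentralized_of_isReceptive (IsSaturated.automized_receptive hS hF hXn).2
  refine isConstrained_normalizerSystem hS hF hUn hN (isConstrained_cSys_of_map hS hF
    (isFullyCentralized_of_isReceptive (IsSaturated.automized_receptive hS hF hUn).2) hXn.1
    (hXC _ (isCentralizerSystem_cSys hXn.1)) hgW ?_ fun y hy => ?_)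
  · rintro _ hv
    obtain ⟨w, hw, rfl⟩ := hf.mem_img.1 hv
    exact (hgW.mono le_sup_left).mem_img.2 ⟨w, hzX hw, hgf w hw⟩
  · have hle := le_extSub hf
    have h1 := map_mem_centralizerIn hg hle (centralizerIn_le_extSub (hW hy)) (hW hy).2
    rwa [IsMap.img_congr hgf] at h1

end CfsgLib.Fusion.Components
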