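import Cfsg.Agent.Lib.Fusion.System.Components.CoreLayer
import Cfsg.Agent.Lib.Fusion.System.CentralizerNormal

/-!
# The generalized Fitting subsystem is self-centralizing
-/

set_option autoImplicit false
set_option maxHeartbeats 1000000
set_option linter.style.haveILetI false
set_option linter.unusedSectionVars false

open Subgroup
open scoped Classical

namespace CfsgLib.Fusion.Components

open Cfsg (FusionSystem)
open Cfsg.FusionSystem (normalizerIn centralizerIn preimageAlong)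
open CfsgLib.Fusion

universe u

variable {Ω : Type u} [Group Ω] {S T U : Subgroup Ω} {F : FusionSystem S} {E : FusionSystem T}
  {p : ℕ} [Finite S] [Fact p.Prime]

/-- Everything centralized by `E` that centralizes the core lies in the core. -/
theorem mem_core_of_layer (hS : IsPGroup p S) (hF : F.IsSaturated p) (hE : E.IsLayerOf F p)
    {y : Ω} (hy : y ∈ CentFocal.cent F E) (hyQ : y ∈ Subgroup.centralizer (F.core : Set Ω)) :
    y ∈ F.core := by
  obtain ⟨hEn, hcomp, -⟩ := hE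
  set Y := CentFocal.cent F E
  have hYC : Y ≤ centralizerIn S T := CentFocal.cent_le
  obtain ⟨D, hD, -⟩ := CentFocal.exists_normal_of_focal_le hS hF hEn.1.2.2.2.1 hYC
    (CentFocal.stronglyClosed_cent hS hF hEn) (CentFocal.focal_le_cent hS hF hEn)
  have hYS : Y ≤ S := hYC.trans inf_le_left
  haveI : Finite Y := finite_of_le hYS
  have hc : D.IsConstrained p := (isConstrained_iff_no_component (hS.to_le hYS) hD.1.1).2 <| by
    rintro ⟨V, K, hKs, hKq⟩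
    have hVY : V ≤ Y := subnormal_le hKs
    have hVT : V ≤ T := le_of_isSubsystemOf (hcomp V K ⟨.step hKs hD, hKq⟩)
    haveI : Finite V := finite_of_le (hVY.trans hYS)
    refine Cfsg.Agent.S5148.result p (hS.to_le (hVY.trans hYS)) K hKq ⟨⟨fun a b => Subtype.ext ?_⟩⟩
    exact ((Subgroup.mem_centralizer_iff.1 (hYC (hVY b.2)).2) a (hVT a.2))
  have hR : F.IsNormal D.core := isNormal_weaklyNormal_core hS hD.1
  exact le_core hR (centralizerIn_le_of_isCentric (isCentric_core hc)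
    ⟨hy, Subgroup.centralizer_le (le_core hR) hyQ⟩)

/-- The generalized Fitting subsystem contains its centralizer. -/
theorem fitting_self_centralizing (hS : IsPGroup p S) (hF : F.IsSaturated p) {D : FusionSystem U}
    (hD : D.IsGeneralizedFittingOf F p) :
    (D.center ≤ centralizerIn S U ∧ ∀ P, D.Hom P ⊆ F.centralizerHom D.center P) ∧
      ∀ Y, Y ≤ centralizerIn S U → (∀ P, D.Hom P ⊆ F.centralizerHom Y P) → Y ≤ D.center := by
  obtain ⟨T, E, hE, hcp⟩ := hD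
  have hTS : T ≤ S := hE.1.1.2.2.2.1.1
  haveI : Finite T := finite_of_le hTS
  set Q := F.core with hQdef
  have hQ : F.IsNormal Q := isNormal_core
  have hQS := hQ.1
  haveI : Finite Q := finite_of_le hQS
  have hED : E.IsSubsystemOf D := isSubsystemOf_centralProduct hcp
  obtain ⟨D₀, hprod, Z, θ, -, -, -, hθ₁, hθ₂, hZS, hker, hr, hhom⟩ := hcp
  have hlc := layer_le_centralizer hS hF hE
  have hQT : T ≤ Subgroup.centralizer (Q : Set Ω) := by
    obtain ⟨φ, hφ, -⟩ := isMap_id (F := E) (le_refl T)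
    exact (mem_centralizerHom_iff.1 (hlc T hφ)).1.trans inf_le_right
  have hθ : ∀ s : Q.prod T, θ s = s.1.1 * s.1.2 := by
    intro s
    obtain ⟨h1, h2⟩ := Subgroup.mem_prod.1 s.2
    have e : s = ⟨(s.1.1, 1), Subgroup.mem_prod.2 ⟨h1, one_mem _⟩⟩ *
        ⟨(1, s.1.2), Subgroup.mem_prod.2 ⟨one_mem _, h2⟩⟩ := by
      apply Subtype.ext
      simp
    conv_lhs => rw [e]
    rw [map_mul, hθ₁, hθ₂]
  have hQU : Q ≤ U := fun x hx => hr.le ⟨⟨(x, 1), Subgroup.mem_prod.2 ⟨hx, one_mem _⟩⟩, hθ₁ x _⟩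
  have hTU : T ≤ U := fun x hx => hr.le ⟨⟨(1, x), Subgroup.mem_prod.2 ⟨one_mem _, hx⟩⟩, hθ₂ x _⟩
  have hUdec : ∀ z ∈ U, ∃ s : Q.prod T, θ s = z := fun z hz => hr.ge hz
  have hUS : U ≤ S := fun z hz => by
    obtain ⟨s, rfl⟩ := hUdec z hz
    rw [hθ]
    exact mul_mem (hQS (Subgroup.mem_prod.1 s.2).1) (hTS (Subgroup.mem_prod.1 s.2).2)
  set proj : Subgroup Ω → Subgroup Ω :=
    fun P => (preimageAlong θ P).map (MonoidHom.snd Ω Ω) with hproj
  have hprojle : ∀ P, ∀ s : Q.prod T, θ s ∈ P → s.1.2 ∈ proj P := fun P s hs =>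
    Subgroup.mem_map.2 ⟨s.1, mem_preimageAlong.2 ⟨s.2, by rw [ext1_apply θ s.2]; exact hs⟩, rfl⟩
  -- maps given by an element of the core and a map of the layer
  have hbuild : ∀ (P R : Subgroup Ω) (a : Ω) (k g : Ω → Ω), P ≤ U → proj P ≤ R → a ∈ Q →
      IsMap E R g → IsMap F (R ⊔ Q) k → (∀ x ∈ R, k x = g x) → (∀ x ∈ Q, k x = x) →
      IsMap D P (fun z => a * k z * a⁻¹) := by
    intro P R a k g hP hPR ha hg hk hkg hkQ
    have hgT : ∀ x ∈ R, g x ∈ T := fun x hx => hg.mem_S hx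
    have hPW : P ≤ R ⊔ Q := fun z hz => by
      obtain ⟨s, hs⟩ := hUdec z (hP hz)
      rw [← hs, hθ]
      exact mul_mem (Subgroup.mem_sup_right (Subgroup.mem_prod.1 s.2).1)
        (Subgroup.mem_sup_left (hPR (hprojle P s (hs ▸ hz))))
    have hkF : IsMap F P (fun z => a * k z * a⁻¹) :=
      (hk.mono hPW).comp (isMap_conj (le_refl S) (hQS ha)) fun z hz => hk.mem_S (hPW hz)
    obtain ⟨χ, -, hχ⟩ := hkF
    have hBR : ∀ x : preimageAlong θ P, (x : Ω × Ω).2 ∈ R := fun x =>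
      hPR (Subgroup.mem_map.2 ⟨x, x.2, rfl⟩)
    obtain ⟨g₀, hg₀, hg₀e⟩ := id hg
    let ψ : preimageAlong θ P →* Ω × Ω := MonoidHom.mk'
      (fun x => (a * (x : Ω × Ω).1 * a⁻¹, g₀ ⟨(x : Ω × Ω).2, hBR x⟩)) fun x y => by
        refine Prod.ext ?_ ?_
        · show a * ((x : Ω × Ω).1 * (y : Ω × Ω).1) * a⁻¹ = _
          simp only [Prod.mk_mul_mk]
          group
        · show g₀ (⟨(x : Ω × Ω).2, hBR x⟩ * ⟨(y : Ω × Ω).2, hBR y⟩) = _
          rw [map_mul]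
          rfl
    have hpre := preimageAlong_le θ P
    have hψval : ∀ x, ψ x ∈ Q.prod T := fun x => Subgroup.mem_prod.2
      ⟨mul_mem (mul_mem ha (Subgroup.mem_prod.1 (hpre x.2)).1) (inv_mem ha),
        (E.le_of_mem hg₀).2 _⟩
    have hψ : ψ ∈ D₀.Hom (preimageAlong θ P) := by
      obtain ⟨g₁, hg₁, hg₁e⟩ := hg.mono (show proj P ≤ R from hPR)
      refine (hprod _ ψ).2 ⟨hpre, Cfsg.conjHom _ a, (Cfsg.innerFusionSystem Q).conj_mem ?_ ha,
        g₁, hg₁, fun x h₁ h₂ => ?_⟩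
      · rintro _ ⟨x, hx, rfl⟩
        exact (Subgroup.mem_prod.1 (hpre hx)).1
      · refine Prod.ext rfl ?_
        exact (hg₀e ⟨_, hBR x⟩).trans (hg₁e ⟨_, h₂⟩).symm
    refine ⟨χ, (hhom P χ).2 ⟨hP, ψ, hψ, hpre, hψval, fun x => ?_, fun x => ?_⟩, hχ⟩
    · rw [← ext1_apply θ]; exact (mem_preimageAlong.1 x.2).2
    · have hx2 := hBR x
      obtain ⟨hx1, -⟩ := Subgroup.mem_prod.1 (hpre x.2)
      refine (hχ _).trans ?_
      show a * k (θ ⟨x, hpre x.2⟩) * a⁻¹ = θ ⟨ψ x, hψval x⟩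
      rw [hθ, hθ]
      show a * k ((x : Ω × Ω).1 * (x : Ω × Ω).2) * a⁻¹ =
        a * (x : Ω × Ω).1 * a⁻¹ * g₀ ⟨(x : Ω × Ω).2, hx2⟩
      rw [hk.map_mul (Subgroup.mem_sup_right hx1) (Subgroup.mem_sup_left hx2), hkQ _ hx1,
        hkg _ hx2, show g₀ ⟨(x : Ω × Ω).2, hx2⟩ = g (x : Ω × Ω).2 from hg₀e ⟨_, hx2⟩]
      have hc := Subgroup.mem_centralizer_iff.1 (hQT (hgT _ hx2)) a⁻¹ (inv_mem ha)
      rw [mul_assoc, mul_assoc, ← hc]
      group
  -- every map has this shape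
  have hshape : ∀ (P : Subgroup Ω) (f : Ω → Ω), IsMap D P f → P ≤ U ∧ ∃ a ∈ Q, ∃ k g : Ω → Ω,
      IsMap E (proj P) g ∧ IsMap F (proj P ⊔ Q) k ∧ (∀ x ∈ proj P, k x = g x) ∧
      (∀ x ∈ Q, k x = x) ∧ (∀ z ∈ P, f z = a * k z * a⁻¹) ∧ P ≤ proj P ⊔ Q := by
    intro P f hf
    obtain ⟨φ, hφ, hφf⟩ := hf
    obtain ⟨hP, ψ, hψ, hpre, hψS, hψP, hψe⟩ := (hhom P φ).1 hφ
    obtain ⟨-, ψ₁, ⟨-, a, ha, hψ₁⟩, ψ₂, hψ₂, hψ12⟩ := (hprod _ ψ).1 hψ
    obtain ⟨-, -, k, hk, hkg, hkQ⟩ := mem_centralizerHom_iff.1 (hlc _ hψ₂)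
    refine ⟨hP, a, ha, k, toFun ψ₂, isMap_toFun hψ₂, hk, hkg, hkQ, fun z hz => ?_, fun z hz => ?_⟩
    all_goals obtain ⟨s, hs⟩ := hUdec z (hP hz)
    all_goals have hsP : (s : Ω × Ω) ∈ preimageAlong θ P :=
      mem_preimageAlong.2 ⟨s.2, by rw [ext1_apply θ s.2]; exact hs ▸ hz⟩
    all_goals obtain ⟨hs1, -⟩ := Subgroup.mem_prod.1 s.2
    all_goals have hs2 : s.1.2 ∈ proj P := hprojle P s (hs ▸ hz)
    · have h1 := (hψe ⟨_, hsP⟩).trans (hθ _)
      dsimp only [Subtype.coe_mk] at h1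
      rw [hψ12 ⟨_, hsP⟩ (Subgroup.mem_map.2 ⟨_, hsP, rfl⟩) hs2, hψ₁] at h1
      have e : f z = φ ⟨_, hψP ⟨_, hsP⟩⟩ := by
        rw [hφf]; exact congrArg f hs.symm
      rw [e, h1, ← hs, hθ, hk.map_mul (Subgroup.mem_sup_right hs1) (Subgroup.mem_sup_left hs2),
        hkQ _ hs1, hkg _ hs2, toFun_apply ψ₂ hs2]
      have hc := Subgroup.mem_centralizer_iff.1 (hQT ((E.le_of_mem hψ₂).2 ⟨_, hs2⟩)) a⁻¹ (inv_mem ha)
      show a * s.1.1 * a⁻¹ * ψ₂ ⟨s.1.2, hs2⟩ = a * (s.1.1 * ψ₂ ⟨s.1.2, hs2⟩) * a⁻¹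
      rw [mul_assoc, hc]
      group
    · rw [← hs, hθ]
      exact mul_mem (Subgroup.mem_sup_right hs1) (Subgroup.mem_sup_left hs2)
  have hDF : ∀ (P : Subgroup Ω) (f : Ω → Ω), IsMap D P f → IsMap F P f := by
    intro P f hf
    obtain ⟨-, a, ha, k, g, -, hk, -, -, hfe, hPW⟩ := hshape P f hf
    exact ((hk.mono hPW).comp (isMap_conj (le_refl S) (hQS ha))
      fun z hz => hk.mem_S (hPW hz)).congr hfe
  haveI : Finite U := finite_of_le hUS
  have hZD := isCentral_center (F := D)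
  refine ⟨⟨fun x hx => (show x ∈ centralizerIn S U from ⟨hUS (hZD.1 hx), D.center_le_centralizer hx⟩),
    fun P φ hφ => ?_⟩, fun Y hY hDY => ?_⟩
  · refine mem_centralizerHom_iff.2 ?_
    obtain ⟨g, hg, hgf, hgc⟩ := (isCentral_iff.1 hZD).2 P _ (isMap_toFun hφ)
    have hC : ∀ x ∈ U, x ∈ centralizerIn S D.center := fun x hx =>
      ⟨hUS hx, Subgroup.mem_centralizer_iff.2 fun c hc =>
        (Subgroup.mem_centralizer_iff.1 (D.center_le_centralizer hc) x hx).symm⟩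
    exact ⟨fun x hx => hC x ((D.le_of_mem hφ).1 hx),
      fun x hx => hC _ (toFun_apply φ hx ▸ (D.le_of_mem hφ).2 ⟨x, hx⟩), g, hDF _ _ hg, hgf, hgc⟩
  · have hYcent : Y ≤ CentFocal.cent F E := CentFocal.le_cent
      (hY.trans (inf_le_inf_left _ (Subgroup.centralizer_le hTU))) fun P φ hφ => hDY P (hED P hφ)
    have hYQ : Y ≤ Q := fun y hy => mem_core_of_layer hS hF hE (hYcent hy)
      (Subgroup.centralizer_le hQU (hY hy).2)
    refine le_sSup (isCentral_iff.2 ⟨hYQ.trans hQU, fun P f hf => ?_⟩)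
    obtain ⟨hP, a, ha, k, g, hg, hk, hkg, hkQ, hfe, -⟩ := hshape P f hf
    have hle : P ⊔ Y ≤ U := sup_le hP (hYQ.trans hQU)
    have hpj : proj (P ⊔ Y) ≤ proj P := by
      rintro _ ⟨x, hx, rfl⟩
      obtain ⟨hxS, hxP⟩ := mem_preimageAlong.1 hx
      rw [ext1_apply θ hxS] at hxP
      have hz : θ ⟨x, hxS⟩ ∈ ((P ⊔ Y : Subgroup Ω) : Set Ω) := hxP
      rw [coe_mul_of_right_le_normalizer_left P Y ((show Y ≤ Subgroup.centralizer (P : Set Ω) from
        fun y hy => Subgroup.centralizer_le hP (hY hy).2).trans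
          (Subgroup.centralizer_le_normalizer _))] at hz
      obtain ⟨z, hz', y, hy, he⟩ := Set.mem_mul.1 hz
      obtain ⟨h1, h2⟩ := Subgroup.mem_prod.1 hxS
      have hs : (x.1 * y⁻¹, x.2) ∈ Q.prod T :=
        Subgroup.mem_prod.2 ⟨mul_mem h1 (inv_mem (hYQ hy)), h2⟩
      refine hprojle P ⟨_, hs⟩ ?_
      rw [hθ]
      show x.1 * y⁻¹ * x.2 ∈ P
      rw [hθ] at he
      have hc := Subgroup.mem_centralizer_iff.1 (hY hy).2 x.2 (hTU h2)
      rw [show x.1 * y⁻¹ * x.2 = z by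
        rw [show z = x.1 * x.2 * y⁻¹ from eq_mul_inv_of_mul_eq he, mul_assoc, mul_assoc]
        congr 1
        calc y⁻¹ * x.2 = y⁻¹ * (x.2 * y) * y⁻¹ := by group
          _ = y⁻¹ * (y * x.2) * y⁻¹ := by rw [hc]
          _ = _ := by group]
      exact hz'
    refine ⟨fun z => a * k z * a⁻¹, hbuild _ (proj P) a k g hle hpj ha hg hk hkg hkQ,
      fun z hz => (hfe z hz).symm, fun y hy => ?_⟩
    show a * k y * a⁻¹ = y
    rw [hkQ y (hYQ hy), Subgroup.mem_centralizer_iff.1 (hY hy).2 a (hQU ha), mul_inv_cancel_right]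

end CfsgLib.Fusion.Components
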