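import Cfsg.Agent.Lib.Fusion.System.Components.CoreLemmas
import Cfsg.Agent.Lib.Fusion.System.CentralLift.Main
import Cfsg.Agent.Lib.Fusion.System.PerfectCenter
import Cfsg.Agent.Lib.Fusion.System.FactorSat
import Cfsg.Agent.S5140
import Cfsg.Agent.S5141
import Cfsg.Agent.S5148

/-!
# Constrained systems are exactly the systems without components
-/

set_option autoImplicit false
set_option linter.style.haveILetI false
set_option linter.unusedSectionVars false

open Subgroup
open scoped Classical Pointwise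

namespace CfsgLib.Fusion.Components

open Cfsg (FusionSystem autInducedBy)
open Cfsg.FusionSystem (normalizerIn centralizerIn preimageAlong)
open CfsgLib.Fusion

universe u

variable {Ω : Type u} [Group Ω] {S T : Subgroup Ω} {F : FusionSystem S} {E : FusionSystem T}
  {p : ℕ} [Finite S] [Fact p.Prime] {P Q R : Subgroup Ω} {f g : Ω → Ω}

/-! ### Facts on systems and residuals -/

theorem isWeaklyNormalIn_self (hS : IsPGroup p S) (hF : F.IsSaturated p) :
    F.IsWeaklyNormalIn F p := by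
  have hsub : F.IsSubsystemOf F := fun _ _ h => h
  have hsc : F.StronglyClosed S :=
    stronglyClosed_iff.2 ⟨le_rfl, fun _ _ _ hf _ hx => hf.mem_S hx⟩
  refine ⟨hF, hF, (isInvariantIn_iff_strongInv hS hF hsub hsc).2 fun P Q f g hPQ _ hf hfQ hg => ?_⟩
  obtain ⟨g', hg', hg'1, -⟩ := hg.exists_inv
  refine ⟨g ∘ (f ∘ g'), ((hg'.mono (hg.img_mono hPQ)).comp hf fun y hy => ?_).comp hg fun y hy => ?_,
    fun x hx => ?_⟩
  · obtain ⟨x, hx, rfl⟩ := (hg.mono hPQ).mem_img.1 hy
    rwa [hg'1 x (hPQ hx)]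
  · obtain ⟨x, hx, rfl⟩ := (hg.mono hPQ).mem_img.1 hy
    show f (g' (g x)) ∈ Q
    rw [hg'1 x (hPQ hx)]
    exact hfQ x hx
  · show g (f (g' (g x))) = g (f x)
    rw [hg'1 x (hPQ hx)]

/-- The `p'`-residual subsystem is normal and is its own `p'`-residual. -/
theorem exists_reduced (hS : IsPGroup p S) (hF : F.IsSaturated p) :
    ∃ C : FusionSystem S, C.IsNormalIn F p ∧
      ∀ D : FusionSystem S, D.IsSaturated p → D.HasPrimeToPIndexIn C p → C.IsSubsystemOf D := by
  obtain ⟨C, hC⟩ := Cfsg.Agent.S5140.result p hS F hF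
  refine ⟨C, Cfsg.Agent.S5141.result p hS F hF F (isWeaklyNormalIn_self hS hF) C hC,
    fun D hD hDi => hC.2.2 D hD ⟨fun P φ hφ => hC.2.1.1 P (hDi.1 P hφ), fun P hP => ?_⟩⟩
  refine Subgroup.map_le_iff_le_comap.2 ((Subgroup.closure_le _).2 ?_)
  rintro a ⟨k, hk⟩
  have h1 : (a : MulAut P) ∈ C.autGroup P :=
    hC.2.1.2 P hP ⟨a, Subgroup.subset_closure ⟨k, hk⟩, rfl⟩
  refine hDi.2 P hP ⟨⟨a, h1⟩, Subgroup.subset_closure ⟨k, ?_⟩, rfl⟩
  rw [Subgroup.orderOf_mk, ← hk, Subgroup.orderOf_coe]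

/-- Over `S`, a subsystem containing the maps generated by `p`-elements has index prime to `p`. -/
theorem hasPrimeToPIndex_of_pElement (hS : IsPGroup p S) (hF : F.IsSaturated p) {D : FusionSystem S}
    (hsub : D.IsSubsystemOf F)
    (h : ∀ R, F.IsCentric R → ∀ β ∈ F.autGroup R, ∀ k : ℕ, β ^ p ^ k = 1 → IsMap D R (autFun β)) :
    D.HasPrimeToPIndexIn F p := by
  refine PPrime.hasPrimeToPIndex (𝒞 := {R | F.IsCentric R})
    (fun R hR R' hc => isCentric_of_isConj hR hc) hS hF (fun R hR => hR.1) hsub fun P f hf => ?_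
  induction hf with
  | base hC hle hR hβ hk => exact (h _ hC _ hβ _ hk).mono hle
  | conj hP hs => exact isMap_conj hP hs
  | comp _ _ hm h1 h2 => exact h1.comp h2 hm
  | congr _ he h1 => exact h1.congr he

/-- Weakly normal subsystems over `S` of a reduced system contain all maps. -/
theorem isMap_of_weaklyNormal_top (hS : IsPGroup p S) {C : FusionSystem S}
    (hmin : ∀ D : FusionSystem S, D.IsSaturated p → D.HasPrimeToPIndexIn C p → C.IsSubsystemOf D)
    (hTS : T = S) (hE : E.IsWeaklyNormalIn C p) (hf : IsMap C P f) : IsMap E P f := by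
  subst hTS
  obtain ⟨hEs, hC, hinv⟩ := hE
  have hstr := (isInvariantIn_iff_strongInv hS hC hinv.1 hinv.2.1).1 hinv
  refine isMap_of_sub (hmin E hEs (hasPrimeToPIndex_of_pElement hS hC hinv.1 ?_)) hf
  intro R hR β hβ k hk
  obtain ⟨θ, hθ, -, hθA⟩ := exists_conj_pAut hS hC hR.1 (isPGroup_zpowers_of_pow hk)
    (Subgroup.zpowers_le.2 hβ)
  obtain ⟨s, hs, hsx⟩ := hθA β (Subgroup.mem_zpowers β)
  obtain ⟨θ', hθ', hθ'1, -⟩ := hθ.exists_inv
  obtain ⟨m, hm, hme⟩ := hstr _ _ (fun x => s * x * s⁻¹) θ' le_rfl hθ.img_le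
    (isMap_conj hθ.img_le hs.1) (fun x hx => (Subgroup.mem_normalizer_iff.1 hs.2 x).1 hx) hθ'
  rw [show img (img R θ) θ' = R from
    (img_img hθ).trans ((IsMap.img_congr fun x hx => hθ'1 x hx).trans img_id)] at hm
  refine hm.congr fun x hx => ?_
  have h1 := hme (θ x) (hθ.mem_img.2 ⟨x, hx, rfl⟩)
  rw [hθ'1 x hx] at h1
  rw [h1, ← hsx x hx, hθ'1 _ (autFun_mem β hx)]

/-- A reduced system whose core is centralized by `S` has central core. -/
theorem isCentral_core_of_reduced (hS : IsPGroup p S) {C : FusionSystem S} (hC : C.IsSaturated p)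
    (hmin : ∀ D : FusionSystem S, D.IsSaturated p → D.HasPrimeToPIndexIn C p → C.IsSubsystemOf D)
    (hcent : S ≤ centralizerIn S C.core) : C.IsCentral C.core := by
  set Q := C.core with hQdef
  have hQ : C.IsNormal Q := isNormal_core
  have hQsc := stronglyClosed_of_isNormal hQ
  set D := cSystem C S Q hcent hQ.1
  have hD : D.IsSaturated p := by
    have key : ∀ (U : Subgroup Ω) (hU : U ≤ centralizerIn S Q), U = centralizerIn S Q →
        (cSystem C U Q hU hQ.1).IsSaturated p := by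
      rintro U hU rfl
      exact (cSys_isWeaklyNormalIn hS hC hQ).1
    exact key S hcent (le_antisymm hcent inf_le_left)
  have hsub : D.IsSubsystemOf C := fun _ _ hφ =>
    mem_hom_iff.2 (isMap_cSystem_iff.1 (isMap_toFun hφ)).isMap
  have hle := hmin D hD (hasPrimeToPIndex_of_pElement hS hC hsub fun R hR β hβ k hk => ?_)
  · refine isCentral_iff.2 ⟨hQ.1, fun P f hf => ?_⟩
    exact (isMap_cSystem_iff.1 (isMap_of_sub hle hf)).2.2
  have hQR : Q ≤ R := fun q hq => centralizerIn_le_of_isCentric hR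
    ⟨hQ.1 hq, Subgroup.mem_centralizer_iff.2 fun x hx =>
      (Subgroup.mem_centralizer_iff.1 (hcent (hR.1 hx)).2 q hq).symm⟩
  obtain ⟨θ, hθ, -, hθA⟩ := exists_conj_pAut hS hC hR.1 (isPGroup_zpowers_of_pow hk)
    (Subgroup.zpowers_le.2 hβ)
  obtain ⟨s, hs, hsx⟩ := hθA β (Subgroup.mem_zpowers β)
  refine isMap_cSystem_iff.2 ⟨hR.1, fun x hx => hR.1 (autFun_mem β hx), autFun β, ?_,
    fun _ _ => rfl, fun q hq => ?_⟩
  · rw [sup_eq_left.2 hQR]
    exact (mem_autGroup_iff hR.1).1 hβ
  · refine hθ.inj (autFun_mem β (hQR hq)) (hQR hq) ?_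
    rw [hsx q (hQR hq), ← Subgroup.mem_centralizer_iff.1 (hcent hs.1).2 _
      ((stronglyClosed_iff.1 hQsc).2 Q θ le_rfl (hθ.mono hQR) q hq), mul_inv_cancel_right]

omit [Finite S] in
/-- Systems all whose maps are conjugations have trivial hyperfocal subgroup. -/
theorem hyperfocal_eq_bot_of_inner (hS : IsPGroup p S)
    (h : ∀ (P : Subgroup Ω) (f : Ω → Ω), IsMap F P f → ∃ s : Ω,
      (∃ k : ℕ, s ^ p ^ k = 1) ∧ ∀ x ∈ P, f x = s * x * s⁻¹) :
    F.hyperfocalSubgroup p = ⊥ := by
  refine le_bot_iff.1 (hyperfocal_le ⟨bot_le, fun s _ => Subgroup.mem_normalizer_iff.2 fun x => by simp, fun P hP α hα x hx => ?_⟩)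
  obtain ⟨s, ⟨k, hk⟩, hs⟩ := h P _ ((mem_autGroup_iff hP).1 α.2)
  have key : ∀ n : ℕ, ∀ y ∈ P, autFun ((α : MulAut P) ^ n) y = s ^ n * y * (s ^ n)⁻¹ := by
    intro n
    induction n with
    | zero => intro y hy; rw [pow_zero, autFun_one hy]; simp
    | succ n ih =>
      intro y hy
      rw [pow_succ', autFun_mul _ _ hy, hs _ (autFun_mem _ hy), ih y hy, pow_succ']
      group
  have h1 : α ^ p ^ k = 1 := Subtype.ext (autFun_ext fun y hy => by
    rw [Subgroup.coe_pow, Subgroup.coe_one, autFun_one hy, key _ y hy, hk]; group)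
  obtain ⟨m, hm⟩ := exists_pow_pow_eq hα k
  rw [Subgroup.mem_bot, ← hm, h1, one_pow, Subgroup.coe_one, autFun_one hx, inv_mul_cancel]

/-! ### Quasisimple systems -/

theorem commute_of_le_center (h : S ≤ F.center) : IsMulCommutative S :=
  ⟨⟨fun a b => Subtype.ext
    (Subgroup.mem_centralizer_iff.1 (F.center_le_centralizer (h b.2)) a a.2)⟩⟩

/-- The core of a quasisimple system is central. -/
theorem core_le_center_of_quasisimple (hS : IsPGroup p S) (hq : F.Quasisimple p) :
    F.core ≤ F.center := by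
  obtain ⟨hF, hhyp, hquot⟩ := hq
  have hsc : F.StronglyClosed F.center :=
    stronglyClosed_of_isNormal (isNormal_of_isCentral isCentral_center)
  set θ := QuotientGroup.mk' ((F.center).subgroupOf S) with hθ
  have hker : ∀ s : S, θ s = 1 ↔ (s : Ω) ∈ F.center := fun s => by
    rw [hθ, QuotientGroup.mk'_apply, QuotientGroup.eq_one_iff, Subgroup.mem_subgroupOf]
  have hr : θ.range = ⊤ := MonoidHom.range_eq_top.2 (QuotientGroup.mk'_surjective _)
  obtain ⟨E, hE⟩ := exists_isFactorSystem hsc θ hker hr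
  obtain ⟨hEs, hne, hsimp⟩ := hquot E hE
  haveI : Finite (⊤ : Subgroup (↥S ⧸ (F.center).subgroupOf S)) := Subtype.finite
  have hS' : IsPGroup p (⊤ : Subgroup (↥S ⧸ (F.center).subgroupOf S)) :=
    (hS.to_quotient _).to_subgroup _
  set Q := F.core
  have hQ : F.IsNormal Q := isNormal_core
  have hbot : preimageAlong θ ⊥ = F.center := PerfectCenter.preimage_bot hE
  have hpre : preimageAlong θ (imgι θ Q) = Q :=
    preimageAlong_imgι hQ.1 (hbot.le.trans center_le_core)
  have hQn : E.IsNormal (imgι θ Q) := by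
    refine (isNormal_iff_autExtends hS' hEs le_top).2 fun P' f' hP' hf' => ?_
    obtain ⟨l, hl, hle⟩ := exists_lift_map (isSurjectiveMorphism_factor hS hF hsc hE) hf'
    obtain ⟨α, hα, hαl⟩ := autExtends_of_isNormal hQ _ l
      ((preimageAlong_mono hP').trans hpre.le) hl
    obtain ⟨e, he, hee⟩ := PerfectCenter.exists_push hE le_top
      (P' := imgι θ Q) (f := autFun α) (by rw [hpre]; exact (mem_autGroup_iff hQ.1).1 hα)
    rw [hpre] at hee
    have hei : img (imgι θ Q) e = imgι θ Q := img_eq_of_map_le le_top he le_rfl fun y hy => by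
      obtain ⟨x, hx, rfl⟩ := (mem_imgι hQ.1).1 hy
      rw [hee x hx]
      exact (mem_imgι hQ.1).2 ⟨_, autFun_mem α hx, rfl⟩
    refine ⟨autOf he hei, autOf_mem he hei, fun y hy => ?_⟩
    obtain ⟨x, hx, rfl⟩ := (mem_imgι hQ.1).1 (hP' hy)
    have hxP : x ∈ preimageAlong θ P' := mem_preimageAlong.2 ⟨hQ.1 hx, hy⟩
    rw [autFun_autOf he hei (hP' hy), hee x hx, hαl x hxP, hle x hxP]
  rcases hsimp _ _ (inner_isNormalIn hS' hEs hQn) with h | ⟨h, hinner⟩
  · intro x hx
    have h1 : ext1 θ x ∈ (⊥ : Subgroup _) := h ▸ (mem_imgι hQ.1).2 ⟨x, hx, rfl⟩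
    rw [← hbot]
    exact mem_preimageAlong.2 ⟨hQ.1 hx, h1⟩
  · exfalso
    obtain ⟨n, hn⟩ := IsPGroup.iff_card.1 hS'
    have h1 : E.hyperfocalSubgroup p = ⊥ := by
      refine hyperfocal_eq_bot_of_inner hS' fun P f ⟨φ, hφ, hφf⟩ => ?_
      rw [← hinner P] at hφ
      obtain ⟨-, s, hs, he⟩ := hφ
      refine ⟨s, ⟨n, ?_⟩, fun x hx => (hφf ⟨x, hx⟩).symm.trans (he ⟨x, hx⟩)⟩
      have h2 := congrArg Subtype.val (pow_card_eq_one' (x := (⟨s, Subgroup.mem_top s⟩ :
        (⊤ : Subgroup (↥S ⧸ (F.center).subgroupOf S)))))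
      rwa [hn] at h2
    rw [hyperfocal_of_surjectiveMorphism (isSurjectiveMorphism_factor hS hF hsc hE), hhyp,
      Subgroup.subgroupOf_self, ← MonoidHom.range_eq_map, hr] at h1
    exact hne h1

theorem not_isConstrained_of_quasisimple (hS : IsPGroup p S) (hq : F.Quasisimple p) :
    ¬ F.IsConstrained p := by
  intro hc
  have h1 := core_le_center_of_quasisimple hS hq
  refine Cfsg.Agent.S5148.result p hS F hq (commute_of_le_center fun x hx => h1 ?_)
  refine centralizerIn_le_of_isCentric (isCentric_core hc) ⟨hx, ?_⟩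
  exact Subgroup.mem_centralizer_iff.2 fun q hq' =>
    (Subgroup.mem_centralizer_iff.1 (F.center_le_centralizer (h1 hq')) x hx).symm

theorem not_exists_component_of_constrained (hS : IsPGroup p S) (hF : F.IsConstrained p) :
    ¬ ∃ (T : Subgroup Ω) (C : FusionSystem T), C.IsComponentIn F p := by
  rintro ⟨T, C, hsub, hq⟩
  have hle := subnormal_le hsub
  haveI : Finite T := finite_of_le hle
  exact not_isConstrained_of_quasisimple (hS.to_le hle) hq
    (isConstrained_of_subnormal hsub ‹_› ‹_› hS hF)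

/-! ### Components exist -/

/-- A reduced nonconstrained system with perfect hyperfocal subgroup, all whose smaller systems
have components, has one. -/
theorem exists_component_of_reduced (hS : IsPGroup p S) {C : FusionSystem S}
    (hC : C.IsSaturated p) (hnc : ¬ C.IsConstrained p) (hhyp : C.hyperfocalSubgroup p = S)
    (hmin : ∀ D : FusionSystem S, D.IsSaturated p → D.HasPrimeToPIndexIn C p → C.IsSubsystemOf D)
    (hrec : ∀ (U : Subgroup Ω) (D : FusionSystem U), D.IsNormalIn C p → U < S →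
      ¬ D.IsConstrained p → ∃ (T : Subgroup Ω) (K : FusionSystem T), K.IsComponentIn D p) :
    ∃ (T : Subgroup Ω) (K : FusionSystem T), K.IsComponentIn C p := by
  by_contra hno
  have hsmall : ∀ (U : Subgroup Ω) (D : FusionSystem U), D.IsNormalIn C p → U < S →
      D.IsConstrained p := fun U D hD hU => by
    by_contra hDnc
    obtain ⟨T, K, hK, hq⟩ := hrec U D hD hU hDnc
    exact hno ⟨T, K, hK.step hD, hq⟩
  set Q := C.core with hQdef
  have hQ : C.IsNormal Q := isNormal_core
  have hcent : S ≤ centralizerIn S Q := by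
    by_contra hlt
    exact hnc (isConstrained_of_cSys hS hC hQ (hsmall _ _ (cSys_isNormalIn hS hC hQ)
      (lt_of_le_not_ge inf_le_left hlt)))
  have hQc : C.IsCentral Q := isCentral_core_of_reduced hS hC hmin hcent
  have hQZ : Q ≤ C.center := le_sSup hQc
  have hsc : C.StronglyClosed C.center :=
    stronglyClosed_of_isNormal (isNormal_of_isCentral isCentral_center)
  have hZS : ¬ S ≤ C.center := fun h => hnc ⟨hC, Q, hQ, hQ.1, fun R _ => by
    rename_i hR
    obtain ⟨f, hf, rfl⟩ := isConj_iff.1 hR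
    rw [img_eq_of_map_le hQ.1 hf le_rfl
      ((stronglyClosed_iff.1 (stronglyClosed_of_isNormal hQ)).2 _ _ le_rfl hf)]
    exact fun x hx => center_le_core (h hx.1)⟩
  refine hno ⟨S, C, .refl C p, hC, hhyp, fun E hE => ?_⟩
  set θ := QuotientGroup.mk' ((C.center).subgroupOf S) with hθ
  have hS' : IsPGroup p (⊤ : Subgroup (↥S ⧸ (C.center).subgroupOf S)) :=
    (hS.to_quotient _).to_subgroup _
  refine ⟨isSaturated_of_isFactorSystem hS hC hsc hE, fun htop => hZS fun x hx => ?_,
    fun T' E' hE' => ?_⟩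
  · refine (hE.2.1 ⟨x, hx⟩).1 (Subgroup.mem_bot.1 ?_)
    rw [← htop]
    exact Subgroup.mem_top _
  by_cases hT' : T' = ⊥
  · exact Or.inl hT'
  have d : CentralLift.LiftData C C.center θ E E' p :=
    ⟨hS, hC, isCentral_center, hE, hE'⟩
  obtain ⟨E₁, hE₁⟩ := d.exists_system
  have hwn : E₁.IsWeaklyNormalIn C p :=
    ⟨d.system_saturated hE₁, hC, d.system_invariant hE₁⟩
  rcases (preimageAlong_le θ T').eq_or_lt with hT | hT
  · have hTtop : T' = ⊤ := by
      rw [← d.imgι_T, hT]
      show (S.subgroupOf S).map θ = ⊤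
      rw [Subgroup.subgroupOf_self, Subgroup.map_top_of_surjective _ (QuotientGroup.mk'_surjective _)]
    refine Or.inr ⟨hTtop, fun P' => Set.Subset.antisymm (fun φ hφ => d.invE.1 P' hφ) fun φ hφ => ?_⟩
    obtain ⟨l, hl, hle⟩ := exists_lift_map d.surj (isMap_toFun hφ)
    obtain ⟨-, -, ⟨e, he, hee⟩, -⟩ :=
      d.gmap_isMap ((hE₁ _ _).1 (isMap_of_weaklyNormal_top hS hmin hT hwn hl))
    rw [d.imgι_preimage le_top] at he
    refine mem_hom_iff.2 (he.congr fun y hy => ?_)
    obtain ⟨x, hx, rfl⟩ := exists_preimage (α := θ) (P' := P') (le_top.trans d.range.ge) hy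
    rw [← hle x hx, hee x hx]
  · exfalso
    haveI : Finite (preimageAlong θ T') := finite_of_le (preimageAlong_le θ T')
    obtain ⟨D, hD⟩ := Cfsg.Agent.S5140.result p (hS.to_le hT.le) E₁ hwn.1
    have hDn : D.IsNormalIn C p := Cfsg.Agent.S5141.result p hS C hC E₁ hwn D hD
    have hDc := isCentric_core (hsmall _ D hDn hT)
    have hR : D.core ≤ C.center :=
      (le_core (isNormal_weaklyNormal_core hS hDn.1)).trans hQZ
    have hTZ : preimageAlong θ T' ≤ C.center := fun x hx =>
      hR (centralizerIn_le_of_isCentric hDc ⟨hx, Subgroup.mem_centralizer_iff.2 fun q hq =>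
        (Subgroup.mem_centralizer_iff.1 (C.center_le_centralizer (hR hq)) x (hT.le hx)).symm⟩)
    refine hT' (le_bot_iff.1 fun y hy => ?_)
    obtain ⟨x, hx, rfl⟩ := exists_preimage (α := θ) (P' := T') (le_top.trans d.range.ge) hy
    exact Subgroup.mem_bot.2 ((d.ext1_eq_one_iff (preimageAlong_le θ T' hx)).2 (hTZ hx))

omit [Finite S] in
theorem exists_component_aux (n : ℕ) : ∀ (S : Subgroup Ω) (F : FusionSystem S), Finite S →
    Nat.card S = n → IsPGroup p S → F.IsSaturated p → ¬ F.IsConstrained p →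
    ∃ (T : Subgroup Ω) (K : FusionSystem T), K.IsComponentIn F p := by
  induction n using Nat.strong_induction_on with
  | _ n ih =>
  intro S F hfin hn hS hF hnc
  obtain ⟨C, hCn, hmin⟩ := exists_reduced hS hF
  have hC : C.IsSaturated p := hCn.1.1
  have hCnc : ¬ C.IsConstrained p := fun h =>
    hnc (isConstrained_of_weaklyNormal hS hCn.1 hyperfocal_le_S h)
  have hrec : ∀ (U : Subgroup Ω) (D : FusionSystem U), D.IsNormalIn C p → U < S →
      ¬ D.IsConstrained p → ∃ (T : Subgroup Ω) (K : FusionSystem T), K.IsComponentIn D p :=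
    fun U D hD hU hDnc => ih _ (hn ▸ card_lt_of_lt le_rfl hU) U D (finite_of_le hU.le) rfl
      (hS.to_le hU.le) hD.1.1 hDnc
  suffices h : ∃ (T : Subgroup Ω) (K : FusionSystem T), K.IsComponentIn C p by
    obtain ⟨T, K, hK, hq⟩ := h
    exact ⟨T, K, hK.step hCn, hq⟩
  rcases (hyperfocal_le_S (F := C) (p := p)).eq_or_lt with hH | hH
  · exact exists_component_of_reduced hS hC hCnc hH hmin hrec
  · have hN := pSystem_isNormalIn (hTS := hH.le) (hT := le_rfl) hS hC
      (absorbs_hyperfocal (F := C) (p := p)).normal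
    obtain ⟨T, K, hK, hq⟩ := hrec _ _ hN hH fun h =>
      hCnc (isConstrained_of_weaklyNormal hS hN.1 le_rfl h)
    exact ⟨T, K, hK.step hN, hq⟩

theorem isConstrained_iff_no_component (hS : IsPGroup p S) (hF : F.IsSaturated p) :
    F.IsConstrained p ↔ ¬ ∃ (T : Subgroup Ω) (C : FusionSystem T), C.IsComponentIn F p :=
  ⟨not_exists_component_of_constrained hS, fun h => by
    by_contra hnc
    exact h (exists_component_aux _ S F ‹_› rfl hS hF hnc)⟩

end CfsgLib.Fusion.Components
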